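import Cfsg.Prelude.Def_FusionSystem
import Mathlib
import Cfsg.Agent.S0261
import Cfsg.Agent.CharactersDeep.QuatSylow
import Cfsg.Agent.ChevalleyStructure.SL2Hom
import Cfsg.Agent.OddHalf.LongSL.Abs
import Cfsg.Agent.OddHalf.LongSL.Tw_m3
import Cfsg.Agent.FastGrp
import Cfsg.Agent.Prune
set_option linter.all false

section
prune_inst 0x7ffcbcfbaff8bfffffff7e7ffeffdffe3df9ffffe6dffb43ffe0e1ff8bdf0b0cbfc5fbaf9de052ff1ef7e2be90b87b53ffffffffef6bdc7ffffd5ff41ffbee1ff5f7b58c71dcbcbe1ffe4fff8bf07fce7f3fffffffffffffffffffffffffffbeffffffffffff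

-- part: H751/Big/SameFus
section
prune_inst 0x34304100040000000018001000001c2060000192004b8001d1e007420606340320010621f8800e100100026400080000000000090010000020000e00411c00a080a230823000000002000700b803180c00000000000000000000000000041000000000000
set_option linter.all false
open scoped Cfsg.Agent.FastGrp

/-!
# Transport through an isomorphism of 2-fusion systems (helper751)

* `SameFus S T φ` : sets of pairs of elements of `S` are simultaneously conjugate in `G` if and only if the sets of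
  their images under `φ : S ≃* T` are simultaneously conjugate in `H`;
* `exists_sameFus` : from the hypothesis of S5117, S5173;
* `Good Q z` : `Q` is a generalised quaternion subgroup with involution `z`, strongly closed in the 2-subgroups of
  `C(z)` containing `Q`;
* `good_of_normal` : Sylow 2-subgroups of a normal subgroup of `C(z)`;
* `SameFus.good` : the property is transported.
-/

set_option autoImplicit false

namespace Cfsg.Agent.H751.Big

open Subgroup Cfsg

/-- The same fusion of the subgroups `S` of `G` and `T` of `H`. -/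
def SameFus {G H : Type*} [Group G] [Group H] (S : Subgroup G) (T : Subgroup H) (φ : S ≃* T) : Prop :=
  ∀ R : Set (S × S), (∃ g : G, ∀ p ∈ R, (p.2 : G) = g * p.1 * g⁻¹) ↔
    ∃ h : H, ∀ p ∈ R, (φ p.2 : H) = h * φ p.1 * h⁻¹

section Basic

variable {G H : Type*} [Group G] [Group H] {S : Subgroup G} {T : Subgroup H} {φ : S ≃* T}

theorem SameFus.symm (h : SameFus S T φ) : SameFus T S φ.symm := by
  intro R
  have h1 := h ((fun p : T × T => (φ.symm p.1, φ.symm p.2)) '' R)
  constructor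
  · rintro ⟨g, hg⟩
    obtain ⟨k, hk⟩ := h1.2 ⟨g, by
      rintro _ ⟨p, hp, rfl⟩
      simpa only [_root_.MulEquiv.apply_symm_apply] using hg p hp⟩
    exact ⟨k, fun p hp => by simpa only [] using hk _ ⟨p, hp, rfl⟩⟩
  · rintro ⟨g, hg⟩
    obtain ⟨k, hk⟩ := h1.1 ⟨g, by
      rintro _ ⟨p, hp, rfl⟩
      simpa only [] using hg p hp⟩
    exact ⟨k, fun p hp => by simpa only [_root_.MulEquiv.apply_symm_apply] using hk _ ⟨p, hp, rfl⟩⟩

/-- Families. -/
theorem SameFus.fam (h : SameFus S T φ) {ι : Type*} (x y : ι → S) :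
    (∃ g : G, ∀ i, (y i : G) = g * x i * g⁻¹) ↔ ∃ k : H, ∀ i, (φ (y i) : H) = k * φ (x i) * k⁻¹ := by
  have h1 := h (Set.range fun i => (x i, y i))
  constructor
  · rintro ⟨g, hg⟩
    obtain ⟨k, hk⟩ := h1.1 ⟨g, by
      rintro _ ⟨i, rfl⟩
      exact hg i⟩
    exact ⟨k, fun i => hk _ ⟨i, rfl⟩⟩
  · rintro ⟨g, hg⟩
    obtain ⟨k, hk⟩ := h1.2 ⟨g, by
      rintro _ ⟨i, rfl⟩
      exact hg i⟩
    exact ⟨k, fun i => hk _ ⟨i, rfl⟩⟩

/-- Single elements. -/
theorem SameFus.one (h : SameFus S T φ) (x y : S) :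
    (∃ g : G, (y : G) = g * x * g⁻¹) ↔ ∃ k : H, (φ y : H) = k * φ x * k⁻¹ := by
  have h1 := h.fam (ι := Unit) (fun _ => x) (fun _ => y)
  simpa only [_root_.forall_const] using h1

end Basic

/-- The hypothesis of S5173. -/
theorem exists_sameFus {G H : Type*} [Group G] [Group H] {S : Subgroup G} {ι : S →* H}
    (hι : (groupFusionSystem S).IsRealizedBy ι) {T : Subgroup H} (hT : T = ι.range) :
    ∃ φ : S ≃* T, (∀ x, (φ x : H) = ι x) ∧ SameFus S T φ := by
  subst hT
  refine ⟨MonoidHom.ofInjective hι.1, fun x => rfl, ?_⟩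
  intro R
  constructor
  · rintro ⟨g, hg⟩
    -- the subgroup generated by the first components
    let X : Set G := {x | ∃ p ∈ R, (p.1 : G) = x}
    let P : Subgroup G := _root_.Subgroup.closure X
    have hP : P ≤ S := by
      rw [closure_le]
      rintro _ ⟨p, -, rfl⟩
      exact p.1.2
    have hgP : ∀ x ∈ P, g * x * g⁻¹ ∈ S := by
      intro x hx
      have h1 : P ≤ S.comap (MulAut.conj g).toMonoidHom := by
        rw [closure_le]
        rintro _ ⟨p, hp, rfl⟩
        show g * (p.1 : G) * g⁻¹ ∈ S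
        rw [← hg p hp]
        exact p.2.2
      exact h1 hx
    let ψ : P →* G := (MulAut.conj g).toMonoidHom.comp P.subtype
    have hψ : ∀ x : P, ψ x ∈ S := fun x => hgP x x.2
    obtain ⟨k, hk⟩ := (hι.2 P hP ψ hψ).1 ⟨hP, hψ, g, fun _ => rfl⟩
    refine ⟨k, fun p hp => ?_⟩
    have hpP : (p.1 : G) ∈ P := subset_closure ⟨p, hp, rfl⟩
    have h2 := hk ⟨p.1, hpP⟩
    have h3 : (⟨ψ ⟨p.1, hpP⟩, hψ ⟨p.1, hpP⟩⟩ : S) = p.2 := Subtype.ext (hg p hp).symm
    rw [h3] at h2
    exact h2
  · rintro ⟨k, hk⟩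
    let X : Set G := {x | ∃ p ∈ R, (p.1 : G) = x}
    let P : Subgroup G := _root_.Subgroup.closure X
    have hP : P ≤ S := by
      rw [closure_le]
      rintro _ ⟨p, -, rfl⟩
      exact p.1.2
    -- the image of `P` under the conjugation by `k` is in the range
    have hmem : ∀ x (hx : x ∈ P), k * ι ⟨x, hP hx⟩ * k⁻¹ ∈ ι.range := by
      intro x hx
      have h1 : P ≤ (((ι.range).comap (MulAut.conj k).toMonoidHom).comap ι).map S.subtype := by
        rw [closure_le]
        rintro _ ⟨p, hp, rfl⟩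
        refine ⟨p.1, ?_, rfl⟩
        show k * ι p.1 * k⁻¹ ∈ ι.range
        exact ⟨p.2, hk p hp⟩
      obtain ⟨y, hy, hyx⟩ := h1 hx
      have : y = ⟨x, hP hx⟩ := Subtype.ext hyx
      subst this
      exact hy
    let ψ : P →* G := S.subtype.comp ((MonoidHom.ofInjective hι.1).symm.toMonoidHom.comp
      { toFun := fun x => ⟨k * ι ⟨x, hP x.2⟩ * k⁻¹, hmem x x.2⟩
        map_one' := by
          apply Subtype.ext
          show k * ι ⟨1, _⟩ * k⁻¹ = 1
          have : (⟨1, S.one_mem⟩ : S) = 1 := rfl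
          rw [this, map_one, mul_one, mul_inv_cancel]
        map_mul' := fun x y => by
          apply Subtype.ext
          show k * ι ⟨(x : G) * y, _⟩ * k⁻¹ = k * ι ⟨x, _⟩ * k⁻¹ * (k * ι ⟨y, _⟩ * k⁻¹)
          have : (⟨(x : G) * y, hP (P.mul_mem x.2 y.2)⟩ : S) = ⟨x, hP x.2⟩ * ⟨y, hP y.2⟩ := rfl
          rw [this, map_mul]
          group })
    have hψ : ∀ x : P, ψ x ∈ S := fun x => Subtype.mem _
    have hψι : ∀ x : P, ι ⟨ψ x, hψ x⟩ = k * ι ⟨x, hP x.2⟩ * k⁻¹ := by
      intro x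
      have h1 : (⟨ψ x, hψ x⟩ : S) = (MonoidHom.ofInjective hι.1).symm ⟨k * ι ⟨x, hP x.2⟩ * k⁻¹, hmem x x.2⟩ := rfl
      rw [h1]
      have h2 := congrArg Subtype.val ((MonoidHom.ofInjective hι.1).apply_symm_apply ⟨k * ι ⟨x, hP x.2⟩ * k⁻¹, hmem x x.2⟩)
      exact h2
    obtain ⟨-, -, g, hg⟩ := (hι.2 P hP ψ hψ).2 ⟨k, hψι⟩
    refine ⟨g, fun p hp => ?_⟩
    have hpP : (p.1 : G) ∈ P := subset_closure ⟨p, hp, rfl⟩
    rw [← hg ⟨p.1, hpP⟩]
    have h3 : (⟨ψ ⟨p.1, hpP⟩, hψ ⟨p.1, hpP⟩⟩ : S) = p.2 := by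
      apply hι.1
      rw [hψι]
      exact (hk p hp).symm
    exact (congrArg Subtype.val h3).symm

/-! ### Good quaternion subgroups -/

/-- `Q` is a generalised quaternion subgroup with involution `z`, strongly closed in `C(z)`. -/
structure Good {G : Type*} [Group G] (Q : Subgroup G) (z : G) : Prop where
  quat : ∃ n : ℕ, Nonempty (Q ≃* QuaternionGroup (2 ^ (n + 1)))
  mem : z ∈ Q
  ord : orderOf z = 2
  le : Q ≤ centralizer {z}
  closed : ∀ P : Subgroup G, IsPGroup 2 P → Q ≤ P → P ≤ centralizer {z} → ∀ x ∈ Q, ∀ c ∈ centralizer ({z} : Set G),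
    c * x * c⁻¹ ∈ P → c * x * c⁻¹ ∈ Q

section Good

variable {G : Type*} [Group G] {Q : Subgroup G} {z : G}

theorem Good.isPGroup (h : Good Q z) : IsPGroup 2 Q := by
  obtain ⟨n, ⟨e⟩⟩ := h.quat
  have h1 : Nat.card Q = 2 ^ (n + 3) := by
    rw [Nat.card_congr e.toEquiv, Nat.card_eq_fintype_card, QuaternionGroup.card]
    rw [pow_add, pow_add]
    ring
  exact IsPGroup.of_card h1

theorem Good.conj (h : Good Q z) (g : G) : Good (Q.map (MulAut.conj g).toMonoidHom) (g * z * g⁻¹) := by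
  have hc : ∀ x : G, x ∈ centralizer ({g * z * g⁻¹} : Set G) ↔ g⁻¹ * x * g ∈ centralizer ({z} : Set G) := by
    intro x
    rw [mem_centralizer_singleton_iff, mem_centralizer_singleton_iff]
    constructor
    · intro h1
      calc g⁻¹ * x * g * z = g⁻¹ * (x * (g * z * g⁻¹)) * g := by group
        _ = g⁻¹ * ((g * z * g⁻¹) * x) * g := by rw [h1]
        _ = z * (g⁻¹ * x * g) := by group
    · intro h1
      calc x * (g * z * g⁻¹) = g * (g⁻¹ * x * g * z) * g⁻¹ := by group
        _ = g * (z * (g⁻¹ * x * g)) * g⁻¹ := by rw [h1]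
        _ = g * z * g⁻¹ * x := by group
  refine ⟨?_, ⟨z, h.mem, rfl⟩, ?_, ?_, ?_⟩
  · obtain ⟨n, ⟨e⟩⟩ := h.quat
    exact ⟨n, ⟨(Q.equivMapOfInjective _ (MulAut.conj g).injective).symm.trans e⟩⟩
  · rw [← h.ord]
    exact orderOf_injective (MulAut.conj g).toMonoidHom (MulAut.conj g).injective z
  · rintro _ ⟨x, hx, rfl⟩
    rw [hc]
    have : g⁻¹ * (MulAut.conj g).toMonoidHom x * g = x := by
      show g⁻¹ * (g * x * g⁻¹) * g = x
      group
    rw [this]
    exact h.le hx
  · rintro P hP hQP hPz _ ⟨x, hx, rfl⟩ c hc' hcx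
    let P' : Subgroup G := P.map (MulAut.conj g⁻¹).toMonoidHom
    have hmem : ∀ y, y ∈ P' ↔ g * y * g⁻¹ ∈ P := by
      intro y
      constructor
      · rintro ⟨w, hw, rfl⟩
        have : g * (MulAut.conj g⁻¹).toMonoidHom w * g⁻¹ = w := by
          show g * (g⁻¹ * w * g⁻¹⁻¹) * g⁻¹ = w
          group
        rw [this]
        exact hw
      · intro hy
        refine ⟨_, hy, ?_⟩
        show g⁻¹ * (g * y * g⁻¹) * g⁻¹⁻¹ = y
        group
    have h1 := h.closed P' (hP.map _) (fun y hy => (hmem y).2 (hQP ⟨y, hy, rfl⟩)) (fun y hy => by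
      have h2 := hPz ((hmem y).1 hy)
      rw [hc] at h2
      have : g⁻¹ * (g * y * g⁻¹) * g = y := by group
      rwa [this] at h2) x hx (g⁻¹ * c * g) ((hc c).1 hc') (by
      rw [hmem]
      have : g * (g⁻¹ * c * g * x * (g⁻¹ * c * g)⁻¹) * g⁻¹ = c * (g * x * g⁻¹) * c⁻¹ := by group
      rw [this]
      exact hcx)
    refine ⟨_, h1, ?_⟩
    show g * (g⁻¹ * c * g * x * (g⁻¹ * c * g)⁻¹) * g⁻¹ = c * (g * x * g⁻¹) * c⁻¹
    group

/-- Sylow 2-subgroups of a normal subgroup of `C(z)`. -/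
theorem good_of_normal [Finite G] {K : Subgroup G} (hK : K ≤ centralizer {z})
    (hn : ∀ c ∈ centralizer ({z} : Set G), ∀ x ∈ K, c * x * c⁻¹ ∈ K) (hQK : Q ≤ K) (hind : ¬ 2 ∣ Q.relIndex K)
    (hq : ∃ n : ℕ, Nonempty (Q ≃* QuaternionGroup (2 ^ (n + 1)))) (hz : z ∈ Q) (ho : orderOf z = 2) : Good Q z := by
  refine ⟨hq, hz, ho, hQK.trans hK, ?_⟩
  intro P hP hQP _ x hx c hc hcx
  -- `P ⊓ K` is a 2-subgroup of `K` containing the Sylow subgroup `Q`
  have hpr : Fact (Nat.Prime 2) := ⟨Nat.prime_two⟩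
  have h1 : IsPGroup 2 (P ⊓ K : Subgroup G) := hP.to_le inf_le_left
  have h2 : Q ≤ P ⊓ K := le_inf hQP hQK
  have h3 : Q = P ⊓ K := by
    apply eq_of_le_of_card_ge h2
    have h4 : Q.relIndex (P ⊓ K) ∣ Q.relIndex K := by
      have := Subgroup.relIndex_mul_relIndex Q (P ⊓ K) K h2 inf_le_right
      exact ⟨_, this.symm⟩
    have h5 : Q.relIndex (P ⊓ K) ∣ Nat.card (P ⊓ K : Subgroup G) := relIndex_dvd_card _ _
    obtain ⟨k, hk⟩ := IsPGroup.iff_card.1 h1
    rw [hk] at h5
    obtain ⟨j, -, hj⟩ := (Nat.dvd_prime_pow Nat.prime_two).1 h5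
    rcases Nat.eq_zero_or_pos j with rfl | hj0
    · rw [pow_zero, relIndex_eq_one] at hj
      exact card_le_of_le hj
    · exact absurd ((dvd_pow_self 2 hj0.ne').trans (hj ▸ h4)) hind
  rw [h3]
  exact ⟨hcx, hn c hc x (hQK hx)⟩

end Good

section Transport

variable {G H : Type*} [Group G] [Group H] [Finite G] [Finite H]

/-- A 2-subgroup is conjugate into the Sylow subgroup. -/
theorem exists_conj_le (S : Sylow 2 G) {P : Subgroup G} (hP : IsPGroup 2 P) :
    ∃ g : G, ∀ x ∈ P, g * x * g⁻¹ ∈ (S : Subgroup G) := by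
  have hp : Fact (Nat.Prime 2) := ⟨Nat.prime_two⟩
  obtain ⟨S', hS'⟩ := hP.exists_le_sylow
  obtain ⟨g, hg⟩ := MulAction.exists_smul_eq G S' S
  refine ⟨g, fun x hx => ?_⟩
  rw [← hg]
  exact ⟨x, hS' hx, rfl⟩

variable {S : Sylow 2 G} {T : Sylow 2 H} {φ : (S : Subgroup G) ≃* (T : Subgroup H)}

/-- the image in `H` of a subgroup of `S` -/
def img (φ : (S : Subgroup G) ≃* (T : Subgroup H)) (Q : Subgroup G) : Subgroup H :=
  ((Q.subgroupOf (S : Subgroup G)).map φ.toMonoidHom).map (T : Subgroup H).subtype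

omit [Finite G] [Finite H] in
theorem mem_img {Q : Subgroup G} {y : H} :
    y ∈ img φ Q ↔ ∃ x : (S : Subgroup G), (x : G) ∈ Q ∧ (φ x : H) = y := by
  constructor
  · rintro ⟨_, ⟨x, hx, rfl⟩, rfl⟩
    exact ⟨x, hx, rfl⟩
  · rintro ⟨x, hx, rfl⟩
    exact ⟨φ x, ⟨x, hx, rfl⟩, rfl⟩

omit [Finite G] [Finite H] in
theorem apply_mem_img {Q : Subgroup G} {x : (S : Subgroup G)} : (φ x : H) ∈ img φ Q ↔ (x : G) ∈ Q := by
  rw [mem_img]
  constructor
  · rintro ⟨y, hy, h⟩
    have : y = x := φ.injective (Subtype.ext h)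
    rwa [← this]
  · intro h
    exact ⟨x, h, rfl⟩

omit [Finite G] [Finite H] in
theorem img_le {Q : Subgroup G} : img φ Q ≤ (T : Subgroup H) := by
  rintro y hy
  obtain ⟨x, -, rfl⟩ := mem_img.1 hy
  exact (φ x).2

/-- the restriction of `φ` -/
noncomputable def imgEquiv {Q : Subgroup G} (hQ : Q ≤ (S : Subgroup G)) : Q ≃* img φ Q :=
  (subgroupOfEquivOfLe hQ).symm.trans (((Q.subgroupOf (S : Subgroup G)).equivMapOfInjective _ φ.injective).trans
    (((Q.subgroupOf (S : Subgroup G)).map φ.toMonoidHom).equivMapOfInjective _ (Subtype.val_injective)))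

omit [Finite H] in
/-- The centralizer of a fully centralized element. -/
theorem SameFus.card_le (h : SameFus (S : Subgroup G) (T : Subgroup H) φ) (z : (S : Subgroup G))
    (P : Subgroup G) (hP : IsPGroup 2 P) (hPz : P ≤ centralizer {(z : G)}) (hzP : (z : G) ∈ P) :
    ∃ P' : Subgroup H, IsPGroup 2 P' ∧ P' ≤ centralizer {(φ z : H)} ∧ Nat.card P' = Nat.card P := by
  obtain ⟨g, hg⟩ := exists_conj_le S hP
  let z1 : (S : Subgroup G) := ⟨g * z * g⁻¹, hg z hzP⟩
  obtain ⟨k, hk⟩ := (h.one z z1).1 ⟨g, rfl⟩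
  let P1 : Subgroup G := P.map (MulAut.conj g).toMonoidHom
  have hP1 : P1 ≤ (S : Subgroup G) := by
    rintro _ ⟨x, hx, rfl⟩
    exact hg x hx
  refine ⟨(img φ P1).map (MulAut.conj k⁻¹).toMonoidHom, ?_, ?_, ?_⟩
  · exact (T.isPGroup'.to_le img_le).map _
  · rintro _ ⟨y, hy, rfl⟩
    obtain ⟨x, ⟨w, hw, hwx⟩, rfl⟩ := mem_img.1 hy
    rw [mem_centralizer_singleton_iff]
    have h1 : x * z1 = z1 * x := by
      apply Subtype.ext
      have hwx' : g * w * g⁻¹ = x := hwx
      have h2 := mem_centralizer_singleton_iff.1 (hPz hw)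
      show (x : G) * (g * z * g⁻¹) = g * z * g⁻¹ * x
      rw [← hwx']
      calc g * w * g⁻¹ * (g * z * g⁻¹) = g * (w * z) * g⁻¹ := by group
        _ = g * (z * w) * g⁻¹ := by rw [h2]
        _ = g * z * g⁻¹ * (g * w * g⁻¹) := by group
    have h3 : (φ x : H) * φ z1 = φ z1 * φ x := by
      have := congrArg (fun u => ((φ u : (T : Subgroup H)) : H)) h1
      simpa only [_root_.map_mul, _root_.Subgroup.coe_mul] using this
    rw [hk] at h3
    show k⁻¹ * (φ x : H) * k⁻¹⁻¹ * φ z = φ z * (k⁻¹ * (φ x : H) * k⁻¹⁻¹)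
    calc k⁻¹ * (φ x : H) * k⁻¹⁻¹ * φ z = k⁻¹ * ((φ x : H) * (k * φ z * k⁻¹)) * k := by group
      _ = k⁻¹ * ((k * φ z * k⁻¹) * φ x) * k := by rw [h3]
      _ = φ z * (k⁻¹ * (φ x : H) * k⁻¹⁻¹) := by group
  · rw [card_map_of_injective (MulAut.conj k⁻¹).injective, ← Nat.card_congr (imgEquiv hP1).toEquiv,
      card_map_of_injective (MulAut.conj g).injective]

/-- The transport, first case: a Sylow 2-subgroup of `C(z)` is contained in `S`. -/
theorem SameFus.good_aux (h : SameFus (S : Subgroup G) (T : Subgroup H) φ) {Q : Subgroup G} {z : (S : Subgroup G)}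
    (hQ : Good Q (z : G)) {P : Subgroup G} (hP : IsPGroup 2 P) (hPz : P ≤ centralizer {(z : G)})
    (hQP : Q ≤ P) (hPS : P ≤ (S : Subgroup G))
    (hmax : ∀ P' : Subgroup G, IsPGroup 2 P' → P' ≤ centralizer {(z : G)} → Nat.card P' ≤ Nat.card P) :
    Good (img φ Q) (φ z : H) := by
  have hp : Fact (Nat.Prime 2) := ⟨Nat.prime_two⟩
  have hQS : Q ≤ (S : Subgroup G) := hQP.trans hPS
  have hmem : ∀ x : (S : Subgroup G), (x : G) ∈ centralizer ({(z : G)} : Set G) ↔
      (φ x : H) ∈ centralizer ({(φ z : H)} : Set H) := by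
    intro x
    rw [mem_centralizer_singleton_iff, mem_centralizer_singleton_iff]
    constructor
    · intro h1
      have h2 : x * z = z * x := Subtype.ext h1
      have := congrArg (fun u => ((φ u : (T : Subgroup H)) : H)) h2
      simpa only [_root_.map_mul, _root_.Subgroup.coe_mul] using this
    · intro h1
      have h2 : φ (x * z) = φ (z * x) := by
        rw [map_mul, map_mul]
        exact Subtype.ext h1
      exact congrArg Subtype.val (φ.injective h2)
  -- `P = C_S(z)`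
  have hPe : ∀ x : (S : Subgroup G), (x : G) ∈ centralizer ({(z : G)} : Set G) → (x : G) ∈ P := by
    have h1 : P ≤ (S : Subgroup G) ⊓ centralizer {(z : G)} := le_inf hPS hPz
    have h2 := eq_of_le_of_card_ge h1 (hmax _ (S.isPGroup'.to_le inf_le_left) inf_le_right)
    intro x hx
    rw [h2]
    exact ⟨x.2, hx⟩
  -- `C_T(φ z)` is a Sylow subgroup of `C(φ z)`
  have hmax' : ∀ P' : Subgroup H, IsPGroup 2 P' → P' ≤ centralizer {(φ z : H)} → Nat.card P' ≤ Nat.card (img φ P) := by
    intro P' hP' hPz'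
    have hzc : (φ z : H) ∈ centralizer ({(φ z : H)} : Set H) := mem_centralizer_singleton_iff.2 rfl
    -- add the element `φ z`
    have hz2 : IsPGroup 2 (zpowers (φ z : H)) := T.isPGroup'.to_le (zpowers_le.2 (φ z).2)
    let P2 : Subgroup H := P' ⊔ zpowers (φ z : H)
    have hle : zpowers (φ z : H) ≤ centralizer ((P' : Subgroup H) : Set H) := by
      rw [zpowers_le, mem_centralizer_iff]
      intro x hx
      exact (mem_centralizer_singleton_iff.1 (hPz' hx))
    have hnorm : P' ≤ normalizer ((zpowers (φ z : H) : Subgroup H) : Set H) := by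
      intro x hx
      rw [mem_normalizer_iff]
      have hc := mem_centralizer_singleton_iff.1 (hPz' hx)
      have hcx : ∀ y ∈ zpowers (φ z : H), x * y * x⁻¹ = y := by
        rintro y ⟨n, rfl⟩
        show x * (φ z : H) ^ n * x⁻¹ = (φ z : H) ^ n
        have : Commute x (φ z : H) := hc
        rw [(this.zpow_right n).eq, mul_inv_cancel_right]
      have hcx' : ∀ y ∈ zpowers (φ z : H), x⁻¹ * y * x = y := by
        rintro y ⟨n, rfl⟩
        show x⁻¹ * (φ z : H) ^ n * x = (φ z : H) ^ n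
        have : Commute x (φ z : H) := hc
        rw [(this.inv_left.zpow_right n).eq, mul_assoc, inv_mul_cancel, mul_one]
      intro y
      constructor
      · intro hy
        rw [hcx y hy]
        exact hy
      · intro hy
        have h1 := hcx' _ hy
        have : x⁻¹ * (x * y * x⁻¹) * x = y := by group
        rw [this] at h1
        rw [h1]
        exact hy
    have hP2 : IsPGroup 2 P2 := hP'.to_sup_of_normal_right' hz2 hnorm
    have hP2z : P2 ≤ centralizer {(φ z : H)} := sup_le hPz' (zpowers_le.2 hzc)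
    obtain ⟨P'', h1, h2, h3⟩ := h.symm.card_le (φ z) P2 hP2 hP2z (mem_sup_right (mem_zpowers _))
    rw [MulEquiv.symm_apply_apply] at h2
    calc Nat.card P' ≤ Nat.card P2 := card_le_of_le le_sup_left
      _ = Nat.card P'' := h3.symm
      _ ≤ Nat.card P := hmax P'' h1 h2
      _ = Nat.card (img φ P) := Nat.card_congr (imgEquiv hPS).toEquiv
  have hPimg : img φ P ≤ centralizer {(φ z : H)} := by
    intro y hy
    obtain ⟨x, hx, rfl⟩ := mem_img.1 hy
    exact (hmem x).1 (hPz hx)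
  refine ⟨?_, apply_mem_img.2 hQ.mem, ?_, ?_, ?_⟩
  · obtain ⟨n, ⟨e⟩⟩ := hQ.quat
    exact ⟨n, ⟨(imgEquiv hQS).symm.trans e⟩⟩
  · have h1 : orderOf (φ z : H) = orderOf (φ z) := Subgroup.orderOf_coe _
    have h2 : orderOf (z : G) = orderOf z := Subgroup.orderOf_coe _
    rw [h1, MulEquiv.orderOf_eq, ← h2]
    exact hQ.ord
  · intro y hy
    obtain ⟨x, hx, rfl⟩ := mem_img.1 hy
    exact (hmem x).1 (hQ.le hx)
  · intro P' hP' hQP' hPz' y hy c hc hcy
    -- a Sylow 2-subgroup of `C(φ z)` containing `P'`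
    obtain ⟨x, hx, rfl⟩ := mem_img.1 hy
    let C : Subgroup H := centralizer {(φ z : H)}
    have hCf : Finite C := inferInstance
    have h1 : IsPGroup 2 (P'.subgroupOf C) := hP'.comap_subtype
    have h2 : IsPGroup 2 ((img φ P).subgroupOf C) := (T.isPGroup'.to_le img_le).comap_subtype
    obtain ⟨R', hR'⟩ := h1.exists_le_sylow
    obtain ⟨R, hR⟩ := h2.exists_le_sylow
    have hRe : (R : Subgroup C) = (img φ P).subgroupOf C := by
      symm
      apply eq_of_le_of_card_ge hR
      have h3 := hmax' ((R : Subgroup C).map C.subtype) (R.isPGroup'.map _) (map_subtype_le _)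
      rw [card_map_of_injective C.subtype_injective] at h3
      rw [Nat.card_congr (subgroupOfEquivOfLe hPimg).toEquiv]
      exact h3
    obtain ⟨d, hd⟩ := MulAction.exists_smul_eq C R' R
    -- `d` moves `P'` into `img φ P`
    have hdP : ∀ w ∈ P', (d : H) * w * (d : H)⁻¹ ∈ img φ P := by
      intro w hw
      have h3 : (⟨w, hPz' hw⟩ : C) ∈ (R' : Subgroup C) := hR' hw
      have h4 : d * ⟨w, hPz' hw⟩ * d⁻¹ ∈ (R : Subgroup C) := by
        rw [← hd]
        exact ⟨_, h3, rfl⟩
      rw [hRe] at h4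
      exact h4
    -- `d` normalises `img φ Q`
    have key : ∀ (w : (S : Subgroup G)) (e : H), (w : G) ∈ Q → e ∈ C → e * φ w * e⁻¹ ∈ img φ P →
        e * φ w * e⁻¹ ∈ img φ Q := by
      intro w e hw he hew
      obtain ⟨v, hv, hve⟩ := mem_img.1 hew
      obtain ⟨g, hg⟩ := (h.fam (ι := Bool) (fun b => if b then w else z) (fun b => if b then v else z)).2 ⟨e, by
        intro b
        cases b
        · show (φ z : H) = e * φ z * e⁻¹
          have := mem_centralizer_singleton_iff.1 he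
          rw [this, mul_inv_cancel_right]
        · exact hve⟩
      have hgz : (z : G) = g * z * g⁻¹ := hg false
      have hgw : (v : G) = g * w * g⁻¹ := hg true
      have hgc : g ∈ centralizer ({(z : G)} : Set G) := by
        rw [mem_centralizer_singleton_iff]
        calc g * z = g * z * g⁻¹ * g := by group
          _ = z * g := by rw [← hgz]
      have h5 := hQ.closed P hP hQP hPz w hw g hgc (by rw [← hgw]; exact hv)
      rw [← hgw] at h5
      rw [← hve]
      exact apply_mem_img.2 h5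
    have hdQ : ∀ w ∈ img φ Q, (d : H) * w * (d : H)⁻¹ ∈ img φ Q := by
      intro w hw
      obtain ⟨v, hv, rfl⟩ := mem_img.1 hw
      exact key v d hv d.2 (hdP _ (hQP' hw))
    have hdQ' : (img φ Q).map (MulAut.conj (d : H)).toMonoidHom = img φ Q := by
      apply eq_of_le_of_card_ge
      · rintro _ ⟨w, hw, rfl⟩
        exact hdQ w hw
      · rw [card_map_of_injective (MulAut.conj (d : H)).injective]
    have h6 : ((d : H) * c) * φ x * ((d : H) * c)⁻¹ ∈ img φ P := by
      have := hdP _ hcy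
      have e1 : (d : H) * (c * φ x * c⁻¹) * (d : H)⁻¹ = ((d : H) * c) * φ x * ((d : H) * c)⁻¹ := by group
      rwa [e1] at this
    have h7 := key x ((d : H) * c) hx (mul_mem d.2 hc) h6
    rw [← hdQ'] at h7
    obtain ⟨w, hw, hwe⟩ := h7
    have hwe' : (d : H) * w * (d : H)⁻¹ = ((d : H) * c) * φ x * ((d : H) * c)⁻¹ := hwe
    have : w = c * φ x * c⁻¹ := by
      calc w = (d : H)⁻¹ * ((d : H) * w * (d : H)⁻¹) * d := by group
        _ = (d : H)⁻¹ * (((d : H) * c) * φ x * ((d : H) * c)⁻¹) * d := by rw [hwe']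
        _ = c * φ x * c⁻¹ := by group
    rw [← this]
    exact hw

/-- **The transport**: the image of a good quaternion subgroup is good. -/
theorem SameFus.good (h : SameFus (S : Subgroup G) (T : Subgroup H) φ) {Q : Subgroup G} {z : (S : Subgroup G)}
    (hQS : Q ≤ (S : Subgroup G)) (hQ : Good Q (z : G)) : Good (img φ Q) (φ z : H) := by
  have hp : Fact (Nat.Prime 2) := ⟨Nat.prime_two⟩
  let C : Subgroup G := centralizer {(z : G)}
  have h1 : IsPGroup 2 (Q.subgroupOf C) := hQ.isPGroup.comap_subtype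
  obtain ⟨R, hR⟩ := h1.exists_le_sylow
  let P : Subgroup G := (R : Subgroup C).map C.subtype
  have hP : IsPGroup 2 P := R.isPGroup'.map _
  have hPz : P ≤ C := map_subtype_le _
  have hQP : Q ≤ P := by
    intro x hx
    exact ⟨⟨x, hQ.le hx⟩, hR hx, rfl⟩
  have hmax : ∀ P' : Subgroup G, IsPGroup 2 P' → P' ≤ C → Nat.card P' ≤ Nat.card P := by
    intro P' hP' hPC
    obtain ⟨R', hR'⟩ := (hP'.comap_subtype : IsPGroup 2 (P'.subgroupOf C)).exists_le_sylow
    calc Nat.card P' = Nat.card (P'.subgroupOf C) := (Nat.card_congr (subgroupOfEquivOfLe hPC).toEquiv).symm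
      _ ≤ Nat.card (R' : Subgroup C) := card_le_of_le hR'
      _ = Nat.card (R : Subgroup C) := by rw [R'.card_eq_multiplicity, R.card_eq_multiplicity]
      _ = Nat.card P := (card_map_of_injective C.subtype_injective).symm
  obtain ⟨g, hg⟩ := exists_conj_le S hP
  let z1 : (S : Subgroup G) := ⟨g * z * g⁻¹, hg z (hQP hQ.mem)⟩
  have hcz : ∀ x : G, x ∈ centralizer ({(z : G)} : Set G) ↔ g * x * g⁻¹ ∈ centralizer ({(z1 : G)} : Set G) := by
    intro x
    rw [mem_centralizer_singleton_iff, mem_centralizer_singleton_iff]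
    show _ ↔ g * x * g⁻¹ * (g * z * g⁻¹) = g * z * g⁻¹ * (g * x * g⁻¹)
    constructor
    · intro h1
      calc g * x * g⁻¹ * (g * z * g⁻¹) = g * (x * z) * g⁻¹ := by group
        _ = g * (z * x) * g⁻¹ := by rw [h1]
        _ = g * z * g⁻¹ * (g * x * g⁻¹) := by group
    · intro h1
      calc x * z = g⁻¹ * (g * x * g⁻¹ * (g * z * g⁻¹)) * g := by group
        _ = g⁻¹ * (g * z * g⁻¹ * (g * x * g⁻¹)) * g := by rw [h1]
        _ = z * x := by group
  have hG1 : Good (Q.map (MulAut.conj g).toMonoidHom) (z1 : G) := hQ.conj g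
  have hPg : P.map (MulAut.conj g).toMonoidHom ≤ (S : Subgroup G) := by
    rintro _ ⟨x, hx, rfl⟩
    exact hg x hx
  have h2 := h.good_aux hG1 (P := P.map (MulAut.conj g).toMonoidHom) (hP.map _) (by
      rintro _ ⟨x, hx, rfl⟩
      exact (hcz x).1 (hPz hx)) (map_mono hQP) hPg (by
      intro P' hP' hPz'
      have h3 := hmax (P'.map (MulAut.conj g⁻¹).toMonoidHom) (hP'.map _) (by
        rintro _ ⟨x, hx, rfl⟩
        show (g⁻¹ * x * g⁻¹⁻¹) ∈ centralizer ({(z : G)} : Set G)
        rw [hcz]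
        have : g * (g⁻¹ * x * g⁻¹⁻¹) * g⁻¹ = x := by group
        rw [this]
        exact hPz' hx)
      rw [card_map_of_injective (MulAut.conj g⁻¹).injective] at h3
      rw [card_map_of_injective (MulAut.conj g).injective]
      exact h3)
  -- back
  obtain ⟨k, hk⟩ := (h.fam (ι := Q) (fun x => ⟨x, hQS x.2⟩) (fun x => ⟨g * x * g⁻¹, hg x (hQP x.2)⟩)).1
    ⟨g, fun x => rfl⟩
  have hkz : (φ z1 : H) = k * φ z * k⁻¹ := hk ⟨z, hQ.mem⟩
  have h3 := h2.conj k⁻¹
  have e1 : k⁻¹ * (φ z1 : H) * k⁻¹⁻¹ = φ z := by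
    rw [hkz]
    group
  have e2 : (img φ (Q.map (MulAut.conj g).toMonoidHom)).map (MulAut.conj k⁻¹).toMonoidHom = img φ Q := by
    ext y
    constructor
    · rintro ⟨w, hw, rfl⟩
      obtain ⟨x, ⟨v, hv, hvx⟩, rfl⟩ := mem_img.1 hw
      have hvx' : g * v * g⁻¹ = (x : G) := hvx
      have h4 : (φ ⟨g * v * g⁻¹, hg v (hQP hv)⟩ : H) = k * φ ⟨v, hQS hv⟩ * k⁻¹ := hk ⟨v, hv⟩
      have h5 : (⟨g * v * g⁻¹, hg v (hQP hv)⟩ : (S : Subgroup G)) = x := Subtype.ext hvx'
      rw [h5] at h4
      show k⁻¹ * (φ x : H) * k⁻¹⁻¹ ∈ img φ Q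
      rw [h4]
      have e3 : k⁻¹ * (k * (φ ⟨v, hQS hv⟩ : H) * k⁻¹) * k⁻¹⁻¹ = φ ⟨v, hQS hv⟩ := by group
      rw [e3]
      exact apply_mem_img.2 hv
    · intro hy
      obtain ⟨x, hx, rfl⟩ := mem_img.1 hy
      refine ⟨φ ⟨g * x * g⁻¹, hg x (hQP hx)⟩, apply_mem_img.2 ⟨x, hx, rfl⟩, ?_⟩
      have h4 : (φ ⟨g * x * g⁻¹, hg x (hQP hx)⟩ : H) = k * φ x * k⁻¹ := hk ⟨x, hx⟩
      show k⁻¹ * (φ ⟨g * x * g⁻¹, hg x (hQP hx)⟩ : H) * k⁻¹⁻¹ = φ x
      rw [h4]
      group
  rw [e1, e2] at h3
  exact h3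

end Transport

end Cfsg.Agent.H751.Big
end

-- part: H808/D4/Conf_mg
section
prune_inst 0x1000001c00000000000008800000a005020400040000040020380004000000000400080000000000000000000000000000011800a08000000000000000020001000000000000000000000000000000000000000000000000000
set_option linter.all false
open scoped Cfsg.Agent.FastGrp

-- part: H808/D4/Conf
section
/-!
# The configuration `D₄` in the exceptional groups of odd characteristic (helper808, S5173)

* `D4Conf G` : three commuting good quaternion subgroups `Q i` with different involutions `z i` and an involution `t`,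
  conjugate to `z 0`, normalising but not centralising every `Q i`, all inside a 2-subgroup;
* `conf_of_homs` : from three commuting `SL(2,F)`, normal in the centralizers of their involutions, and `t` acting on
  each of them as `diag(1,-1)`;
* `conf_of_sub` : the same for a subgroup of an ambient group.
-/

set_option autoImplicit false
set_option linter.unusedSectionVars false

namespace Cfsg.Agent.H808.D4

open Subgroup Cfsg.Agent.ChevalleyStructure

/-- The configuration. -/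
def D4Conf (G : Type*) [Group G] : Prop :=
  ∃ (Q : Fin 3 → Subgroup G) (z : Fin 3 → G) (t : G) (P : Subgroup G), IsPGroup 2 P ∧ (∀ i, Q i ≤ P) ∧ t ∈ P ∧
    (∀ i, Cfsg.Agent.H751.Big.Good (Q i) (z i)) ∧ (∀ i j, i ≠ j → ∀ x ∈ Q i, ∀ y ∈ Q j, x * y = y * x) ∧
    (∀ i j, i ≠ j → z i ≠ z j) ∧ IsConj t (z 0) ∧ (∀ i, ∀ x ∈ Q i, t * x * t⁻¹ ∈ Q i) ∧
    ∀ i, ∃ x ∈ Q i, t * x ≠ x * t

section SLTwo

variable {F : Type*} [Field F]

/-- conjugation by `diag(1,-1)` of matrices -/
def dlM (m : Matrix (Fin 2) (Fin 2) F) : Matrix (Fin 2) (Fin 2) F := !![m 0 0, -m 0 1; -m 1 0, m 1 1]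

theorem dlM_mul (m n : Matrix (Fin 2) (Fin 2) F) : dlM (m * n) = dlM m * dlM n := by
  ext i j
  (revert i j; simp only [dlM, Matrix.mul_apply, Fin.sum_univ_two, _root_.Fin.forall_fin_succ, Fin.isValue, _root_.neg_add_rev, _root_.Matrix.of_apply, _root_.Matrix.cons_val', _root_.Matrix.cons_val_fin_one, _root_.Matrix.cons_val_zero, _root_.Matrix.cons_val_one, _root_.mul_neg, _root_.Matrix.cons_val_succ, _root_.forall_const, _root_.neg_mul, _root_.neg_neg, _root_.true_and, _root_.and_true]) <;> (repeat' with_reducible apply And.intro) <;> ring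

/-- conjugation by `diag(1,-1)` -/
def dl : Matrix.SpecialLinearGroup (Fin 2) F →* Matrix.SpecialLinearGroup (Fin 2) F where
  toFun g := ⟨dlM g.1, by
    have := g.2
    rw [Matrix.det_fin_two] at this
    rw [dlM, Matrix.det_fin_two_of]
    linear_combination this⟩
  map_one' := by
    apply Subtype.ext
    show dlM (1 : Matrix (Fin 2) (Fin 2) F) = 1
    ext i j
    (revert i j; simp only [dlM, _root_.Fin.forall_fin_succ, _root_.Matrix.one_apply_eq, Fin.isValue, _root_.ne_eq, _root_.zero_ne_one, _root_.not_false_eq_true, _root_.Matrix.one_apply_ne, _root_.neg_zero, _root_.one_ne_zero, _root_.Matrix.of_apply, _root_.Matrix.cons_val', _root_.Matrix.cons_val_fin_one, _root_.Matrix.cons_val_zero, _root_.Matrix.cons_val_succ, _root_.IsEmpty.forall_iff, _root_.and_true, Nat.reduceAdd, _root_.Fin.succ_zero_eq_one, _root_.and_self, _root_.Fin.succ_ne_zero, _root_.true_and])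
  map_mul' g h := by
    apply Subtype.ext
    exact dlM_mul g.1 h.1

theorem coe_dl (g : Matrix.SpecialLinearGroup (Fin 2) F) : (dl g).1 = dlM g.1 := rfl

theorem dl_up (t : F) : dl (SL2Hom.up t) = SL2Hom.up (-t) := by
  apply Subtype.ext
  rw [coe_dl]
  ext i j
  (revert i j; simp [dlM, SL2Hom.up, _root_.Fin.forall_fin_succ])

theorem dl_lo (t : F) : dl (SL2Hom.lo t) = SL2Hom.lo (-t) := by
  apply Subtype.ext
  rw [coe_dl]
  ext i j
  (revert i j; simp [dlM, SL2Hom.lo, _root_.Fin.forall_fin_succ])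

theorem hom_ext {Y : Type*} [Group Y] {f g : Matrix.SpecialLinearGroup (Fin 2) F →* Y}
    (hup : ∀ t, f (SL2Hom.up t) = g (SL2Hom.up t)) (hlo : ∀ t, f (SL2Hom.lo t) = g (SL2Hom.lo t))
    (s : Matrix.SpecialLinearGroup (Fin 2) F) : f s = g s := by
  have h1 : s ∈ f.eqLocus g := by
    refine (Subgroup.closure_le _).2 ?_ (SL2Hom.mem_closure_SL2 s)
    rintro x (⟨t, rfl⟩ | ⟨t, rfl⟩)
    · exact hup t
    · exact hlo t
  exact h1

/-- the central elements of `SL(2,F)` -/
theorem central (s : Matrix.SpecialLinearGroup (Fin 2) F) (h : ∀ g, s * g = g * s) : s = 1 ∨ s = -1 := by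
  have h1 : s.1 * !![1, 1; 0, 1] = !![1, 1; 0, 1] * s.1 :=
    congrArg (fun m : Matrix.SpecialLinearGroup (Fin 2) F => m.1) (h (SL2Hom.up 1))
  have h2 : s.1 * !![1, 0; 1, 1] = !![1, 0; 1, 1] * s.1 :=
    congrArg (fun m : Matrix.SpecialLinearGroup (Fin 2) F => m.1) (h (SL2Hom.lo 1))
  have e1 := congrFun (congrFun h1 0) 0
  have e2 := congrFun (congrFun h1 0) 1
  have e3 := congrFun (congrFun h2 0) 0
  simp only [Matrix.mul_apply, Fin.sum_univ_two, _root_.Fin.isValue, _root_.Matrix.of_apply, _root_.Matrix.cons_val', _root_.Matrix.cons_val_zero, _root_.Matrix.cons_val_fin_one, _root_.mul_one, _root_.Matrix.cons_val_one, _root_.MulZeroClass.mul_zero, _root_.add_zero, _root_.one_mul, _root_.left_eq_add, _root_.MulZeroClass.zero_mul, _root_.add_eq_left] at e1 e2 e3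
  have hdet : s.1 0 0 * s.1 1 1 - s.1 0 1 * s.1 1 0 = 1 := by
    rw [← Matrix.det_fin_two]; exact s.2
  have e4 : s.1 1 1 = s.1 0 0 := by linear_combination -e2
  rw [e3, zero_mul, sub_zero, e4] at hdet
  rcases mul_self_eq_one_iff.1 hdet with h0 | h0
  · left
    apply Subtype.ext
    ext i j
    (revert i j; simp only [h0, e1, e3, e4, _root_.Fin.forall_fin_succ, _root_.Matrix.SpecialLinearGroup.coe_one, Fin.isValue, _root_.Fin.succ_zero_eq_one, _root_.IsEmpty.forall_iff, _root_.and_true, _root_.Matrix.one_apply_eq, Nat.reduceAdd, _root_.ne_eq, _root_.zero_ne_one, _root_.not_false_eq_true, _root_.Matrix.one_apply_ne, _root_.and_self, _root_.Fin.succ_ne_zero])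
  · right
    apply Subtype.ext
    rw [Matrix.SpecialLinearGroup.coe_neg, Matrix.SpecialLinearGroup.coe_one]
    ext i j
    (revert i j; simp only [h0, e1, e3, e4, _root_.Fin.forall_fin_succ, _root_.Matrix.neg_apply, Fin.isValue, _root_.Fin.succ_zero_eq_one, _root_.IsEmpty.forall_iff, _root_.and_true, _root_.Matrix.one_apply_eq, Nat.reduceAdd, _root_.ne_eq, _root_.zero_ne_one, _root_.not_false_eq_true, _root_.Matrix.one_apply_ne, _root_.neg_zero, _root_.and_self, _root_.Fin.succ_ne_zero])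

theorem neg_one_ne [Fintype F] (hF : Odd (Fintype.card F)) : (-1 : Matrix.SpecialLinearGroup (Fin 2) F) ≠ 1 := by
  intro h
  have h1 := congrArg (fun g : Matrix.SpecialLinearGroup (Fin 2) F => (g : Matrix (Fin 2) (Fin 2) F) 0 0) h
  simp at h1
  have h3 : ringChar F ≠ 2 := by
    intro h3
    have h4 := FiniteField.even_card_iff_char_two.1 h3
    rw [Nat.odd_iff] at hF
    omega
  apply Ring.two_ne_zero h3
  linear_combination -h1

theorem two_ne [Fintype F] (hF : Odd (Fintype.card F)) : (2 : F) ≠ 0 := by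
  have h3 : ringChar F ≠ 2 := by
    intro h3
    have h4 := FiniteField.even_card_iff_char_two.1 h3
    rw [Nat.odd_iff] at hF
    omega
  exact Ring.two_ne_zero h3

/-- two homomorphisms with conjugate ranges have conjugate involutions -/
theorem conj_neg_one {Y : Type*} [Group Y] {φ ψ : Matrix.SpecialLinearGroup (Fin 2) F →* Y}
    (hφ : Function.Injective φ) (hψ : Function.Injective ψ) (h1 : (-1 : Matrix.SpecialLinearGroup (Fin 2) F) ≠ 1) {n : Y}
    (h2 : ∀ s, ∃ s', n * φ s * n⁻¹ = ψ s') (h3 : ∀ s', ∃ s, n * φ s * n⁻¹ = ψ s') :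
    n * φ (-1) * n⁻¹ = ψ (-1) := by
  obtain ⟨c, hc⟩ := h2 (-1)
  have hcen : ∀ g, c * g = g * c := by
    intro g
    obtain ⟨s, hs⟩ := h3 g
    apply hψ
    rw [map_mul, map_mul, ← hc, ← hs]
    have e : φ (-1) * φ s = φ s * φ (-1) := by rw [← map_mul, ← map_mul, neg_one_mul, mul_neg_one]
    calc n * φ (-1) * n⁻¹ * (n * φ s * n⁻¹) = n * (φ (-1) * φ s) * n⁻¹ := by group
      _ = n * (φ s * φ (-1)) * n⁻¹ := by rw [e]
      _ = n * φ s * n⁻¹ * (n * φ (-1) * n⁻¹) := by group
  rcases central c hcen with h | h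
  · exfalso
    rw [h, map_one, mul_inv_eq_one] at hc
    have h4 : φ (-1) = 1 := by
      have := congrArg (fun x => n⁻¹ * x) hc
      simpa only [_root_.inv_mul_cancel_left, _root_.inv_mul_cancel] using this
    rw [← map_one φ] at h4
    exact h1 (hφ h4)
  · rw [hc, h]

end SLTwo

section Homs

variable {G : Type*} [Group G] [Finite G] {F : Type*} [Field F] [Fintype F]

omit [Fintype F] in
private theorem diag_comm {A B : Matrix (Fin 2) (Fin 2) F} (a1 : A 0 1 = 0) (a2 : A 1 0 = 0) (b1 : B 0 1 = 0)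
    (b2 : B 1 0 = 0) : A * B = B * A := by
  refine Matrix.ext (Fin.forall_fin_two.2 ⟨Fin.forall_fin_two.2 ⟨?_, ?_⟩, Fin.forall_fin_two.2 ⟨?_, ?_⟩⟩) <;>
    simp only [Matrix.mul_apply, Fin.sum_univ_two, a1, a2, b1, b2, mul_zero, zero_mul, add_zero, zero_add]
  exacts [mul_comm _ _, mul_comm _ _]

/-- **The configuration from three `SL(2,F)`.** -/
theorem conf_of_homs (hF : Odd (Fintype.card F)) (φ : Fin 3 → Matrix.SpecialLinearGroup (Fin 2) F →* G)
    (hφ : ∀ i, Function.Injective (φ i)) (t : G) (ht : t * t = 1)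
    (hn : ∀ i, ∀ c : G, c * φ i (-1) = φ i (-1) * c → ∀ s, ∃ s', c * φ i s * c⁻¹ = φ i s')
    (hc : ∀ i j, i ≠ j → ∀ s s', φ i s * φ j s' = φ j s' * φ i s) (hz : ∀ i j, i ≠ j → φ i (-1) ≠ φ j (-1))
    (hconj : IsConj t (φ 0 (-1))) (hup : ∀ i c, t * φ i (SL2Hom.up c) * t⁻¹ = φ i (SL2Hom.up (-c)))
    (hlo : ∀ i c, t * φ i (SL2Hom.lo c) * t⁻¹ = φ i (SL2Hom.lo (-c))) : D4Conf G := by
  classical
  have hp : Fact (Nat.Prime 2) := ⟨Nat.prime_two⟩
  have h2 : (2 : F) ≠ 0 := two_ne hF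
  have hact : ∀ i s, t * φ i s * t⁻¹ = φ i (dl s) := by
    intro i s
    have := hom_ext (f := (MulAut.conj t).toMonoidHom.comp (φ i)) (g := (φ i).comp dl) (fun c => by
      show t * φ i _ * t⁻¹ = φ i (dl _)
      rw [hup, dl_up]) (fun c => by
      show t * φ i _ * t⁻¹ = φ i (dl _)
      rw [hlo, dl_lo]) s
    exact this
  -- the group generated
  let P0 : Subgroup G := _root_.Subgroup.closure ({t} ∪ ⋃ i, ((φ i).range : Set G))
  have htP : t ∈ P0 := _root_.Subgroup.subset_closure (Or.inl rfl)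
  have hJP : ∀ i, (φ i).range ≤ P0 := fun i x hx => _root_.Subgroup.subset_closure (Or.inr (Set.mem_iUnion.2 ⟨i, hx⟩))
  have hnorm : ∀ i, P0 ≤ normalizer (((φ i).range : Subgroup G) : Set G) := by
    intro i
    rw [closure_le]
    have key : ∀ y : G, (∀ x ∈ (φ i).range, y * x * y⁻¹ ∈ (φ i).range) →
        y ∈ normalizer (((φ i).range : Subgroup G) : Set G) := by
      intro y hy
      have h1 : (φ i).range.map (MulAut.conj y).toMonoidHom = (φ i).range := by
        apply eq_of_le_of_card_ge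
        · rintro _ ⟨x, hx, rfl⟩
          exact hy x hx
        · rw [card_map_of_injective (MulAut.conj y).injective]
      rw [mem_normalizer_iff]
      intro x
      refine ⟨hy x, fun hx => ?_⟩
      rw [← h1] at hx
      obtain ⟨w, hw, hwx⟩ := hx
      have hwx' : y * w * y⁻¹ = y * x * y⁻¹ := hwx
      have : w = x := by
        calc w = y⁻¹ * (y * w * y⁻¹) * y := by group
          _ = y⁻¹ * (y * x * y⁻¹) * y := by rw [hwx']
          _ = x := by group
      rwa [← this]
    rintro y (hy | hy)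
    · rw [Set.mem_singleton_iff] at hy
      subst hy
      apply key
      rintro _ ⟨s, rfl⟩
      exact ⟨dl s, (hact i s).symm⟩
    · obtain ⟨j, s', rfl⟩ := Set.mem_iUnion.1 hy
      apply key
      rintro _ ⟨s, rfl⟩
      by_cases hij : j = i
      · subst hij
        exact ⟨s' * s * s'⁻¹, by rw [map_mul, map_mul, map_inv]⟩
      · rw [hc j i hij, mul_inv_cancel_right]
        exact ⟨s, rfl⟩
  -- the Sylow subgroup
  have hz2 : IsPGroup 2 ((zpowers t).subgroupOf P0) := by
    apply IsPGroup.comap_subtype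
    rintro ⟨x, k, rfl⟩
    refine ⟨1, ?_⟩
    apply Subtype.ext
    show ((t : G) ^ k) ^ 2 ^ 1 = 1
    rw [pow_one, ← zpow_natCast, ← zpow_mul, mul_comm, zpow_mul, zpow_natCast, pow_two, ht, one_zpow]
  obtain ⟨R, hR⟩ := hz2.exists_le_sylow
  let P : Subgroup G := (R : Subgroup P0).map P0.subtype
  have hPp : IsPGroup 2 P := R.isPGroup'.map _
  have htR : t ∈ P := ⟨⟨t, htP⟩, hR (mem_zpowers t), rfl⟩
  have hPsub : P.subgroupOf P0 = (R : Subgroup P0) := by
    show ((R : Subgroup P0).map P0.subtype).comap P0.subtype = _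
    rw [comap_map_eq_self_of_injective P0.subtype_injective]
  have hodd : ∀ i, ¬ 2 ∣ (P ⊓ (φ i).range).relIndex (φ i).range := by
    intro i
    have hN : ((φ i).range.subgroupOf P0).Normal := by
      rw [normal_subgroupOf_iff_le_normalizer (hJP i)]
      exact hnorm i
    have h3 := CharactersDeep.QuatSylow.not_dvd_relIndex_of_normal R ((φ i).range.subgroupOf P0)
    rw [← hPsub, relIndex_subgroupOf (hJP i)] at h3
    rwa [inf_relIndex_right]
  -- the quaternion groups
  have hquat : ∀ i, ∃ k : ℕ, 1 ≤ k ∧ Nonempty (((P ⊓ (φ i).range : Subgroup G).comap (φ i) : Subgroup _) ≃*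
      QuaternionGroup (2 ^ k)) := by
    intro i
    have h3 : IsPGroup 2 ((P ⊓ (φ i).range : Subgroup G).comap (φ i)) :=
      (hPp.to_le inf_le_left).comap_of_injective _ (hφ i)
    have h4 : ¬ 2 ∣ ((P ⊓ (φ i).range : Subgroup G).comap (φ i)).index := by
      rw [index_comap]
      exact hodd i
    exact S0261.result hF (h3.toSylow h4)
  have hequiv : ∀ i, Nonempty ((P ⊓ (φ i).range : Subgroup G) ≃*
      ((P ⊓ (φ i).range : Subgroup G).comap (φ i) : Subgroup _)) := by
    intro i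
    have h3 : ((P ⊓ (φ i).range : Subgroup G).comap (φ i)).map (φ i) = P ⊓ (φ i).range :=
      map_comap_eq_self inf_le_right
    exact ⟨((MulEquiv.subgroupCongr h3.symm).trans
      (((P ⊓ (φ i).range : Subgroup G).comap (φ i)).equivMapOfInjective _ (hφ i)).symm)⟩
  have hzsq : ∀ i, φ i (-1) * φ i (-1) = 1 := fun i => by
    rw [← map_mul, neg_one_mul, _root_.neg_neg, map_one]
  have hz1 : ∀ i, φ i (-1) ≠ 1 := by
    intro i h
    rw [← map_one (φ i)] at h
    exact neg_one_ne hF (hφ i h)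
  have hzc : ∀ i s, φ i s * φ i (-1) = φ i (-1) * φ i s := fun i s => by
    rw [← map_mul, ← map_mul, neg_one_mul, mul_neg_one]
  -- the involution belongs to the Sylow subgroup
  have hzQ : ∀ i, φ i (-1) ∈ P ⊓ (φ i).range := by
    intro i
    refine ⟨?_, -1, rfl⟩
    -- it is a central element of the normal subgroup, so in every Sylow subgroup
    have hzP0 : φ i (-1) ∈ P0 := hJP i ⟨-1, rfl⟩
    have hcen : ∀ y ∈ P0, y * φ i (-1) * y⁻¹ = φ i (-1) := by
      intro y hy
      have hny := mem_normalizer_iff.1 (hnorm i hy)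
      refine conj_neg_one (hφ i) (hφ i) (neg_one_ne hF) (fun s => ?_) (fun s' => ?_)
      · obtain ⟨s', hs'⟩ := (hny (φ i s)).1 ⟨s, rfl⟩
        exact ⟨s', hs'.symm⟩
      · have h3 := (hny (y⁻¹ * φ i s' * y)).2 (by
          have e : y * (y⁻¹ * φ i s' * y) * y⁻¹ = φ i s' := by group
          rw [e]
          exact ⟨s', rfl⟩)
        obtain ⟨s, hs⟩ := h3
        refine ⟨s, ?_⟩
        rw [hs]
        group
    have hN : (zpowers (⟨φ i (-1), hzP0⟩ : P0)).Normal := by
      constructor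
      rintro _ ⟨k, rfl⟩ y
      refine ⟨k, ?_⟩
      show (⟨φ i (-1), hzP0⟩ : P0) ^ k = y * (⟨φ i (-1), hzP0⟩ : P0) ^ k * y⁻¹
      rw [← conj_zpow]
      congr 1
      exact Subtype.ext (hcen y y.2).symm
    have hp2 : IsPGroup 2 (zpowers (⟨φ i (-1), hzP0⟩ : P0)) := by
      rintro ⟨x, k, rfl⟩
      refine ⟨1, ?_⟩
      apply Subtype.ext
      show ((⟨φ i (-1), hzP0⟩ : P0) ^ k) ^ 2 ^ 1 = 1
      rw [pow_one, ← zpow_natCast, ← zpow_mul, mul_comm, zpow_mul, zpow_natCast, pow_two]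
      have : (⟨φ i (-1), hzP0⟩ : P0) * ⟨φ i (-1), hzP0⟩ = 1 := Subtype.ext (hzsq i)
      rw [this, one_zpow]
    have h3 : zpowers (⟨φ i (-1), hzP0⟩ : P0) ≤ (R : Subgroup P0) := by
      obtain ⟨R', hR'⟩ := hp2.exists_le_sylow
      obtain ⟨g, hg⟩ := MulAction.exists_smul_eq P0 R' R
      rw [← hg]
      intro x hx
      have h4 : g⁻¹ * x * g ∈ zpowers (⟨φ i (-1), hzP0⟩ : P0) := by
        have := hN.conj_mem x hx g⁻¹
        rwa [inv_inv] at this
      refine ⟨g⁻¹ * x * g, hR' h4, ?_⟩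
      show g * (g⁻¹ * x * g) * g⁻¹ = x
      group
    exact ⟨⟨φ i (-1), hzP0⟩, h3 (mem_zpowers _), rfl⟩
  refine ⟨fun i => P ⊓ (φ i).range, fun i => φ i (-1), t, P, hPp, fun i => inf_le_left, htR, ?_, ?_, hz, hconj, ?_, ?_⟩
  · intro i
    refine Cfsg.Agent.H751.Big.good_of_normal (K := (φ i).range) ?_ ?_ inf_le_right (hodd i) ?_ (hzQ i) ?_
    · rintro _ ⟨s, rfl⟩
      rw [mem_centralizer_singleton_iff]
      exact hzc i s
    · rintro c hc' _ ⟨s, rfl⟩
      obtain ⟨s', hs'⟩ := hn i c (mem_centralizer_singleton_iff.1 hc') s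
      exact ⟨s', hs'.symm⟩
    · obtain ⟨k, hk, ⟨e⟩⟩ := hquat i
      obtain ⟨f⟩ := hequiv i
      obtain ⟨n, rfl⟩ := Nat.exists_eq_succ_of_ne_zero (Nat.one_le_iff_ne_zero.1 hk)
      exact ⟨n, ⟨f.trans e⟩⟩
    · rw [orderOf_eq_prime_iff, pow_two]
      exact ⟨hzsq i, hz1 i⟩
  · rintro i j hij _ ⟨-, s, rfl⟩ _ ⟨-, s', rfl⟩
    exact hc i j hij s s'
  · rintro i _ ⟨hsP, s, rfl⟩
    exact ⟨P.mul_mem (P.mul_mem htR hsP) (P.inv_mem htR), ⟨dl s, (hact i s).symm⟩⟩
  · intro i
    by_contra hcon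
    push Not at hcon
    obtain ⟨k, hk, ⟨e⟩⟩ := hquat i
    have hdiag : ∀ s ∈ (P ⊓ (φ i).range : Subgroup G).comap (φ i), s.1 0 1 = 0 ∧ s.1 1 0 = 0 := by
      intro s hs
      have h3 := hact i s
      rw [hcon _ hs, mul_inv_cancel_right] at h3
      have h4 := hφ i h3
      have h5 : s.1 = dlM s.1 := congrArg (fun m : Matrix.SpecialLinearGroup (Fin 2) F => m.1) h4
      have h6 := congrFun (congrFun h5 0) 1
      have h7 := congrFun (congrFun h5 1) 0
      have e6 : dlM s.1 0 1 = -s.1 0 1 := rfl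
      have e7 : dlM s.1 1 0 = -s.1 1 0 := rfl
      rw [e6] at h6
      rw [e7] at h7
      constructor
      · have : 2 * s.1 0 1 = 0 := by linear_combination h6
        exact (mul_eq_zero.1 this).resolve_left h2
      · have : 2 * s.1 1 0 = 0 := by linear_combination h7
        exact (mul_eq_zero.1 this).resolve_left h2
    have hab : ∀ x y : QuaternionGroup (2 ^ k), x * y = y * x := by
      intro x y
      apply e.symm.injective
      rw [map_mul, map_mul]
      obtain ⟨hx1, hx2⟩ := hdiag _ (e.symm x).2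
      obtain ⟨hy1, hy2⟩ := hdiag _ (e.symm y).2
      apply Subtype.ext
      apply Subtype.ext
      rw [Subgroup.coe_mul, Subgroup.coe_mul, Matrix.SpecialLinearGroup.coe_mul, Matrix.SpecialLinearGroup.coe_mul]
      exact diag_comm hx1 hx2 hy1 hy2
    have h3 := hab (QuaternionGroup.a 1) (QuaternionGroup.xa 0)
    rw [QuaternionGroup.a_mul_xa, QuaternionGroup.xa_mul_a, QuaternionGroup.xa.injEq, zero_sub, zero_add] at h3
    have h4 : ((2 : ℕ) : ZMod (2 * 2 ^ k)) = 0 := by
      push_cast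
      linear_combination -h3
    rw [ZMod.natCast_eq_zero_iff] at h4
    have h5 := Nat.le_of_dvd (by norm_num) h4
    have h6 : 2 ^ 1 ≤ 2 ^ k := Nat.pow_le_pow_right (by norm_num) hk
    omega

end Homs

section Sub

variable {Y : Type*} [Group Y] {F : Type*} [Field F] [Fintype F]

/-- The same for a subgroup of an ambient group. -/
theorem conf_of_sub (hF : Odd (Fintype.card F)) (G : Subgroup Y) [Finite G]
    (φ : Fin 3 → Matrix.SpecialLinearGroup (Fin 2) F →* Y)
    (hφ : ∀ i, Function.Injective (φ i)) (hG : ∀ i s, φ i s ∈ G) (t : Y) (htG : t ∈ G) (ht : t * t = 1)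
    (hn : ∀ i, ∀ c ∈ G, c * φ i (-1) = φ i (-1) * c → ∀ s, ∃ s', c * φ i s * c⁻¹ = φ i s')
    (hc : ∀ i j, i ≠ j → ∀ s s', φ i s * φ j s' = φ j s' * φ i s) (hz : ∀ i j, i ≠ j → φ i (-1) ≠ φ j (-1))
    (m : Y) (hm : m ∈ G) (hconj : m * t * m⁻¹ = φ 0 (-1))
    (hup : ∀ i c, t * φ i (SL2Hom.up c) * t⁻¹ = φ i (SL2Hom.up (-c)))
    (hlo : ∀ i c, t * φ i (SL2Hom.lo c) * t⁻¹ = φ i (SL2Hom.lo (-c))) : D4Conf ↥G := by
  refine conf_of_homs hF (fun i => (φ i).codRestrict G (hG i)) (fun i a b hab => hφ i (congrArg Subtype.val hab))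
    ⟨t, htG⟩ (Subtype.ext ht) ?_ ?_ ?_ ?_ ?_ ?_
  · intro i c hc' s
    obtain ⟨s', hs'⟩ := hn i c c.2 (congrArg Subtype.val hc') s
    exact ⟨s', Subtype.ext hs'⟩
  · intro i j hij s s'
    exact Subtype.ext (hc i j hij s s')
  · intro i j hij h
    exact hz i j hij (congrArg Subtype.val h)
  · rw [isConj_iff]
    exact ⟨⟨m, hm⟩, Subtype.ext hconj⟩
  · intro i c
    exact Subtype.ext (hup i c)
  · intro i c
    exact Subtype.ext (hlo i c)

end Sub

end Cfsg.Agent.H808.D4
end

-- part: H808/D4/Abs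
section
/-!
# Long root `SL₂` subgroups: normality in the centralizer of their involution (helper808, S5173)

* `normal_of_rgd` : in a group with a root group datum, for `j ∈ T` and a root `a`: if every root group `X x`,
  `x ≠ ± a`, has `C_{X x}(j)` commuting with `J = ⟨C_{X a}(j), C_{X (-a)}(j)⟩`, and `± a` are the only roots isolated
  among those with `C_{X x}(j) ≠ 1`, then `J` is normal in `C(j)`.
-/

set_option autoImplicit false
set_option linter.unusedSectionVars false

namespace Cfsg.Agent.H808.D4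

open CoxeterSystem Cfsg.Agent.ChevalleyStructure.CoxeterGeom Cfsg.Agent.Tits.Roots Cfsg.Agent.Tits.Core
  Cfsg.Agent.Tits.Exchange Cfsg.Agent.Nodes.Reps Cfsg.Agent.Nodes.BNOf Cfsg.Agent.Nodes.StabComb
  Cfsg.Agent.Nodes.Bruhat Cfsg.Agent.Nodes.OppDec Cfsg.Agent.Nodes.LeviDec Cfsg.Agent.OddHalf.LongSL

variable {I W Y : Type*} [Fintype I] [DecidableEq I] [Group W] [Group Y] {M : CoxeterMatrix I}
  {cs : CoxeterSystem M W} {A : I → I → ℤ} {h : IsCartan M A} {p : ℕ} {T : Subgroup Y} {n : I → Y}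
  {X : (I → ℤ) → Subgroup Y}

/-- **The normality of `J`.** -/
theorem normal_of_rgd (R : RGD cs h p T n X) [Finite W] {j : Y} (hj : j ∈ T) {a : I → ℤ} (ha : IsRoot cs h a)
    (hx : ∀ x, IsRoot cs h x → x ≠ a → x ≠ -a → ∀ u ∈ ZX X j x, ∀ v ∈ JX X j a, u * v = v * u)
    (hG : GG cs h T X = ⊤) (ha0 : ZX X j a ≠ ⊥)
    (hI : ∀ x, IsRoot cs h x → ZX X j x ≠ ⊥ → x ≠ a → x ≠ -a → ¬ IsRoot cs h (x + a))
    (hE : ∀ b, IsRoot cs h b → b ≠ a → b ≠ -a → ZX X j b ≠ ⊥ →
      ∃ x, IsRoot cs h x ∧ ZX X j x ≠ ⊥ ∧ x ≠ b ∧ x ≠ -b ∧ IsRoot cs h (x + b)) :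
    ∀ g ∈ Subgroup.centralizer ({j} : Set Y), ∀ x ∈ JX X j a, g * x * g⁻¹ ∈ JX X j a := by
  have hJC : JX X j a ≤ Subgroup.centralizer ({j} : Set Y) := JX_le_centralizer
  -- the elements of `ZX x` normalise all `cj k J`
  have hnorm : ∀ {w : W} {k : Y}, Rp cs R.nsys w k → k ∈ Subgroup.centralizer ({j} : Set Y) → ∀ x, IsRoot cs h x →
      ZX X j x ≤ Subgroup.normalizer (JX X j (rep cs h w a) : Set Y) := by
    intro w k hk hkj x hxr
    have h1 : ∀ y, IsRoot cs h y → ZX X j y ≤ Subgroup.normalizer (JX X j a : Set Y) := by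
      intro y hy
      by_cases hya : y = a
      · subst hya
        exact le_trans le_sup_left Subgroup.le_normalizer
      by_cases hya' : y = -a
      · subst hya'
        exact le_trans le_sup_right Subgroup.le_normalizer
      · intro u hu
        have h2 : ∀ v ∈ JX X j a, u * v * u⁻¹ = v := fun v hv => by rw [hx y hy hya hya' u hu v hv]; group
        have h3 : ∀ v ∈ JX X j a, u⁻¹ * v * u = v := fun v hv => by
          have h4 := hx y hy hya hya' u hu v hv
          rw [mul_assoc, ← h4]; group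
        refine Subgroup.mem_normalizer_iff.2 fun v => ⟨fun hv => by rw [h2 v hv]; exact hv, fun hv => ?_⟩
        have h5 := h3 _ hv
        have h6 : u⁻¹ * (u * v * u⁻¹) * u = v := by group
        rw [h6] at h5
        rw [h5]; exact hv
    have h2 : Rp cs R.nsys w⁻¹ k⁻¹ := hk.inv
    have h3 := h1 (rep cs h w⁻¹ x) (hxr.act _)
    rw [← cj_ZX R h2 (inv_mem hkj) hxr] at h3
    intro u hu
    rw [← cj_JX R hk hkj ha]
    have h4 := h3 (conj_mem_cj.2 hu)
    rw [mem_normalizer_iff_cj] at h4 ⊢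
    have e : u = k * (k⁻¹ * u * k⁻¹⁻¹) * k⁻¹ := by group
    rw [← cj_mul, show u * k = k * (k⁻¹ * u * k⁻¹⁻¹) by group, cj_mul, h4]
  have hjT : ({j} : Set Y) ⊆ T := by rintro _ rfl; exact hj
  intro g hg
  obtain ⟨u, hu, w, k, hk, hkj, v, hv, rfl⟩ := Cfsg.Agent.Nodes.NormalForm.mem_centralizer R hjT (by rw [hG]; trivial) hg
  have hsup : ∀ {w : W} {k : Y}, Rp cs R.nsys w k → k ∈ Subgroup.centralizer ({j} : Set Y) →
      RGD.Sup (fun x => X x ⊓ Subgroup.centralizer ({j} : Set Y)) (RGD.Pos cs h) ≤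
        Subgroup.normalizer (JX X j (rep cs h w a) : Set Y) := fun hk hkj =>
    RGD.Sup_le fun x hx => hnorm hk hkj x hx.1
  have hv' : v ∈ Subgroup.normalizer (JX X j a : Set Y) := by
    have h1 := hsup (Cfsg.Agent.Nodes.Reps.rp_of_mem (cs := cs) (hN := R.nsys) (one_mem T)) (one_mem _) hv
    rwa [map_one, Module.End.one_apply] at h1
  have hu' := hsup hk hkj hu
  have key : cj (u * k * v) (JX X j a) = JX X j (rep cs h w a) := by
    rw [cj_mul, cj_mul, mem_normalizer_iff_cj.1 hv', cj_JX R hk hkj ha, mem_normalizer_iff_cj.1 hu']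
  have hconj : ∀ x ∈ JX X j a, u * k * v * x * (u * k * v)⁻¹ ∈ JX X j (rep cs h w a) := fun x hx' => by
    rw [← key]; exact conj_mem_cj.2 hx'
  by_cases h1 : rep cs h w a = a
  · rwa [h1] at hconj
  by_cases h2 : rep cs h w a = -a
  · rwa [h2, JX_neg] at hconj
  · exfalso
    have hbot : ∀ {w : W} {k : Y}, Rp cs R.nsys w k → k ∈ Subgroup.centralizer ({j} : Set Y) → ∀ x, IsRoot cs h x →
        ZX X j x ≠ ⊥ → ZX X j (rep cs h w x) ≠ ⊥ := by
      intro w k hk hkj x hxr hne h3
      apply hne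
      rw [← cj_ZX R hk hkj hxr] at h3
      rw [eq_bot_iff]
      intro y hy
      have h4 : k * y * k⁻¹ ∈ cj k (ZX X j x) := conj_mem_cj.2 hy
      rw [h3, Subgroup.mem_bot, mul_inv_eq_one] at h4
      rw [Subgroup.mem_bot]
      exact mul_eq_left.1 h4
    obtain ⟨x, hxr, hx0, hxb, hxb', hxs⟩ := hE _ (ha.act w) h1 h2 (hbot hk hkj a ha ha0)
    have h2' : Rp cs R.nsys w⁻¹ k⁻¹ := hk.inv
    have hx0' := hbot h2' (inv_mem hkj) x hxr hx0
    have hww : ∀ y : I → ℤ, rep cs h w⁻¹ (rep cs h w y) = y := by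
      intro y
      rw [← rep_mul_apply, inv_mul_cancel, map_one, Module.End.one_apply]
    have hww' : ∀ y : I → ℤ, rep cs h w (rep cs h w⁻¹ y) = y := by
      intro y
      rw [← rep_mul_apply, mul_inv_cancel, map_one, Module.End.one_apply]
    refine hI (rep cs h w⁻¹ x) (hxr.act _) hx0' ?_ ?_ ?_
    · intro h3
      apply hxb
      rw [← h3, hww']
    · intro h3
      apply hxb'
      rw [← map_neg, ← h3, hww']
    · have h3 := hxs.act (w⁻¹)
      rwa [map_add, hww] at h3

end Cfsg.Agent.H808.D4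
end

private theorem dce_b726cdd2aaf4 : _root_.True := by
  try have : _root_.True := by simp only [_root_.Cfsg.Agent.H808.D4.dlM.eq_1]
  exact _root_.True.intro
end

-- part: H808/D4/Chev
section
prune_inst 0x2040004000000000180000000000000000000200400000804000000148000220000001000000100010044020000000000000000228000000000c00000000000080100230000000000000000000000000000000000000000000000000000000000000000
set_option linter.all false
open scoped Cfsg.Agent.FastGrp

/-!
# The configuration `D₄` in the Chevalley groups over fields of odd order (helper808, S5173)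

* `Big G φ` : `φ : SL(2,K) → Y` injective with values in `G`, its range normal in the centralizer of `φ(-1)` in `G`;
* `big_simple` : the long root `SL(2,K)` of a fundamental root;
* `conf_of_tab` : `D4Conf (D.group K)` from tables.
-/

set_option autoImplicit false
set_option linter.unusedSectionVars false

namespace Cfsg.Agent.H808.D4

open Cfsg.Agent.ChevalleyStructure

section Big

variable {Y : Type*} [Group Y] {K : Type*} [Field K]

/-- the range of `φ` is normal in the centralizer of `φ(-1)` in `G` -/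
structure Big (G : Subgroup Y) (φ : Matrix.SpecialLinearGroup (Fin 2) K →* Y) : Prop where
  inj : Function.Injective φ
  mem : ∀ s, φ s ∈ G
  norm : ∀ c ∈ G, c * φ (-1) = φ (-1) * c → ∀ s, ∃ s', c * φ s * c⁻¹ = φ s'

/-- `n` conjugates the range of `φ` to the range of `ψ` -/
structure Cj (φ ψ : Matrix.SpecialLinearGroup (Fin 2) K →* Y) (n : Y) : Prop where
  fwd : ∀ s, ∃ s', n * φ s * n⁻¹ = ψ s'
  bwd : ∀ s', ∃ s, n * φ s * n⁻¹ = ψ s'

variable {G : Subgroup Y} {φ ψ χ : Matrix.SpecialLinearGroup (Fin 2) K →* Y} {n m : Y}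

theorem Cj.one (φ : Matrix.SpecialLinearGroup (Fin 2) K →* Y) : Cj φ φ 1 :=
  ⟨fun s => ⟨s, by rw [one_mul, inv_one, mul_one]⟩, fun s => ⟨s, by rw [one_mul, inv_one, mul_one]⟩⟩

theorem Cj.symm (h : Cj φ ψ n) : Cj ψ φ n⁻¹ := by
  constructor
  · intro s
    obtain ⟨s', hs'⟩ := h.bwd s
    exact ⟨s', by rw [← hs']; group⟩
  · intro s
    obtain ⟨s', hs'⟩ := h.fwd s
    exact ⟨s', by rw [← hs']; group⟩

theorem Cj.trans (h : Cj φ ψ n) (h' : Cj ψ χ m) : Cj φ χ (m * n) := by
  constructor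
  · intro s
    obtain ⟨s', hs'⟩ := h.fwd s
    obtain ⟨s2, hs2⟩ := h'.fwd s'
    exact ⟨s2, by rw [← hs2, ← hs']; group⟩
  · intro s
    obtain ⟨s', hs'⟩ := h'.bwd s
    obtain ⟨s2, hs2⟩ := h.bwd s'
    exact ⟨s2, by rw [← hs', ← hs2]; group⟩

/-- injectivity is transported -/
theorem Cj.inj [Finite K] (h : Cj φ ψ n) (hφ : Function.Injective φ) : Function.Injective ψ := by
  classical
  have hfin : Finite (Matrix.SpecialLinearGroup (Fin 2) K) := inferInstance
  choose f hf using h.bwd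
  -- `f` is injective on the classes of `ψ`; use the surjectivity of `s ↦ s'`
  choose g hg using h.fwd
  have hg1 : Function.Injective g := by
    intro a b hab
    apply hφ
    have h1 := hg a
    rw [hab, ← hg b] at h1
    exact mul_left_cancel (mul_right_cancel h1)
  have hg2 : Function.Surjective g := Finite.surjective_of_injective hg1
  intro a b hab
  obtain ⟨a', rfl⟩ := hg2 a
  obtain ⟨b', rfl⟩ := hg2 b
  rw [← hg, ← hg] at hab
  rw [hφ (mul_left_cancel (mul_right_cancel hab))]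

theorem Cj.neg_one [Fintype K] (hK : Odd (Fintype.card K)) (h : Cj φ ψ n) (hφ : Function.Injective φ) :
    n * φ (-1) * n⁻¹ = ψ (-1) :=
  conj_neg_one hφ (h.inj hφ) (neg_one_ne hK) h.fwd h.bwd

/-- the property is transported -/
theorem Big.conj [Fintype K] (hK : Odd (Fintype.card K)) (h : Big G φ) (hψ : ∀ s, ψ s ∈ G) (hn : n ∈ G)
    (hc : Cj φ ψ n) : Big G ψ := by
  have h1 := hc.neg_one hK h.inj
  refine ⟨hc.inj h.inj, hψ, ?_⟩
  intro c hcG hcc s
  obtain ⟨s1, hs1⟩ := hc.bwd s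
  obtain ⟨s2, hs2⟩ := h.norm (n⁻¹ * c * n) (mul_mem (mul_mem (inv_mem hn) hcG) hn) (by
    rw [← h1] at hcc
    calc n⁻¹ * c * n * φ (-1) = n⁻¹ * (c * (n * φ (-1) * n⁻¹)) * n := by group
      _ = n⁻¹ * (n * φ (-1) * n⁻¹ * c) * n := by rw [hcc]
      _ = φ (-1) * (n⁻¹ * c * n) := by group) s1
  obtain ⟨s3, hs3⟩ := hc.fwd s2
  refine ⟨s3, ?_⟩
  rw [← hs3, ← hs2, ← hs1]
  group

/-- conjugate and commuting subgroups have different involutions -/
theorem Big.ne [Fintype K] (hK : Odd (Fintype.card K)) (h : Big G φ) (hn : n ∈ G) (hc : Cj φ ψ n)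
    (hcomm : ∀ s s', φ s * ψ s' = ψ s' * φ s) : φ (-1) ≠ ψ (-1) := by
  intro he
  have h1 := hc.neg_one hK h.inj
  have h2 : ∀ s', ∃ s, ψ s' = φ s := by
    intro s'
    obtain ⟨s, hs⟩ := hc.bwd s'
    obtain ⟨s2, hs2⟩ := h.norm n hn (by
      rw [← he] at h1
      calc n * φ (-1) = n * φ (-1) * n⁻¹ * n := by group
        _ = φ (-1) * n := by rw [h1]) s
    exact ⟨s2, by rw [← hs, hs2]⟩
  have h3 : ∀ s', ∃ s, φ s' = ψ s := by
    intro s'
    obtain ⟨s, hs⟩ := h.norm n⁻¹ (inv_mem hn) (by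
      rw [← he] at h1
      have h4 : n * φ (-1) = φ (-1) * n := by
        calc n * φ (-1) = n * φ (-1) * n⁻¹ * n := by group
          _ = φ (-1) * n := by rw [h1]
      rw [eq_comm, eq_inv_mul_iff_mul_eq, ← mul_assoc, h4, mul_inv_cancel_right]) s'
    obtain ⟨s2, hs2⟩ := hc.fwd s
    refine ⟨s2, ?_⟩
    rw [← hs2, ← hs]
    group
  have h4 : SL2Hom.up (1 : K) * SL2Hom.lo 1 = SL2Hom.lo 1 * SL2Hom.up 1 := by
    apply h.inj
    rw [map_mul, map_mul]
    obtain ⟨s, hs⟩ := h3 (SL2Hom.lo 1)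
    rw [hs]
    exact hcomm _ _
  have h5 : (!![1, 1; 0, 1] * !![1, 0; 1, 1] : Matrix (Fin 2) (Fin 2) K) = !![1, 0; 1, 1] * !![1, 1; 0, 1] :=
    congrArg (fun m : Matrix.SpecialLinearGroup (Fin 2) K => m.1) h4
  have h6 := congrFun (congrFun h5 0) 0
  simp [Matrix.mul_apply, Fin.sum_univ_two] at h6

end Big

open Cfsg Cfsg.Lie Cfsg.Lie.ChevalleyDatum
open Cfsg.Agent.ChevalleyStructure.Elts Cfsg.Agent.ChevalleyStructure.NPerm
open Cfsg.Agent.ChevalleyStructure.CoxeterGeom Cfsg.Agent.ChevalleyStructure.CoxeterGeomTypes Cfsg.Agent.Tits.Roots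
open Cfsg.Agent.Nodes.Reps Cfsg.Agent.Nodes.BNOf Cfsg.Agent.Nodes.RGDChev Cfsg.Agent.Nodes.Bruhat
open Cfsg.Agent.OddHalf.LongSL Cfsg.Agent.OddHalf.LongSL.Chev

/-- every root orthogonal to `p_i` has a neighbour orthogonal to `p_i` -/
def chkE (D : ChevalleyDatum) (i : ℕ) : Bool :=
  (List.range D.nroots).all fun b => D.cartan i b == 1 || D.cartan i b == -1 || b == D.simple i ||
    b == D.neg (D.simple i) ||
    (List.range D.nroots).any fun x => D.cartan i x == 0 && x != b && x != D.neg b &&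
      (D.commTerms b x).any fun v => v.2.2.1 == 1 && v.2.2.2 == 1

/-- the Cartan integers with `p_i` are `0, ± 1` except for `± p_i` -/
def chkC (D : ChevalleyDatum) (i : ℕ) : Bool :=
  (List.range D.nroots).all fun s => D.cartan i s == 0 || D.cartan i s == 1 || D.cartan i s == -1 ||
    s == D.simple i || (s == D.neg (D.simple i) && D.cartan i s == -2)

section Main

variable {D : ChevalleyDatum} {l : ℕ} {M : CoxeterMatrix (Fin l)} (hp : IsType D l M) (K : Type) [Field K]

/-- the homomorphism `SL₂(K) → GL` of the root `r` -/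
noncomputable def Phi (r : ℕ) (hr : r < D.nroots) : Matrix.SpecialLinearGroup (Fin 2) K →* GL D.Idx K :=
  SL2Hom.phi (SL2All.good_of_mem D hp.inList r hr) K

theorem Phi_up (r : ℕ) (hr : r < D.nroots) (t : K) : Phi hp K r hr (SL2Hom.up t) = xG hp.inList r t :=
  Units.ext (SL2Hom.phi_upper _ _ t rfl)

theorem Phi_lo (r : ℕ) (hr : r < D.nroots) (t : K) : Phi hp K r hr (SL2Hom.lo t) = xG hp.inList (D.neg r) t :=
  Units.ext (SL2Hom.phi_lower _ _ t rfl)

theorem Phi_mem (r : ℕ) (hr : r < D.nroots) (s : Matrix.SpecialLinearGroup (Fin 2) K) :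
    Phi hp K r hr s ∈ D.group K := by
  have h1 : s ∈ (D.group K).comap (Phi hp K r hr) := by
    refine (Subgroup.closure_le _).2 ?_ (SL2Hom.mem_closure_SL2 s)
    rintro x (⟨t, rfl⟩ | ⟨t, rfl⟩)
    · show Phi hp K r hr _ ∈ D.group K
      rw [Phi_up]
      exact xG_mem_group hp.inList _ _
    · show Phi hp K r hr _ ∈ D.group K
      rw [Phi_lo]
      exact xG_mem_group hp.inList _ _
  exact h1

theorem range_Phi (r : ℕ) (hr : r < D.nroots) :
    (Phi hp K r hr).range = D.rootSubgroup K r ⊔ D.rootSubgroup K (D.neg r) := SL2Hom.range_phi _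

theorem Phi_simple_neg_one (i : Fin l) :
    Phi hp K (D.simple i) (simple_lt hp.inList (lt_rank hp i)) (-1) = hG hp.inList (D.simple i) (-1) :=
  phi_neg_one hp K i

/-- **The long root `SL(2,K)` of a fundamental root.** -/
theorem big_simple [Fintype K] (hK : Odd (Fintype.card K)) (i : Fin l) (h1 : chk D i = true)
    (h2 : chkOdd D i = true) (h3 : chkE D i = true) (h4 : chkC D i = true) :
    Big (D.group K) (Phi hp K (D.simple i) (simple_lt hp.inList (lt_rank hp i))) := by
  classical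
  obtain ⟨p, hpc⟩ := CharP.exists K
  have hpp : p.Prime := (CharP.char_is_prime_or_zero K p).resolve_right (CharP.char_ne_zero_of_finite K p)
  have : Fact p.Prime := ⟨hpp⟩
  have h2K : (2 : K) ≠ 0 := two_ne_of_odd hK
  let cs : CoxeterSystem M M.Group := M.toCoxeterSystem
  have hfin : Finite M.Group := finite_W hp cs
  have hr := simple_lt hp.inList (lt_rank hp i)
  have hnr := neg_lt hp.inList hr
  have hinj : Function.Injective (phi hp K i) := by
    rw [injective_iff_map_eq_one]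
    intro g hg
    have hg' : SL2Hom.phi (SL2All.good_of_mem D hp.inList (D.simple i) hr) K g = 1 := congrArg Subtype.val hg
    rcases phi_eq_one _ hg' with h | h
    · exact h
    · exfalso
      rw [h] at hg
      have h3 : hG hp.inList (D.simple i) (-1 : K) = 1 := by rw [← phi_neg_one hp K i, hg]; rfl
      obtain ⟨s, hs, hs'⟩ := List.any_eq_true.1 h2
      rw [List.mem_range] at hs
      have h4 := conj_hG hp K i hs (-1) (neg_ne_zero.2 one_ne_zero) 1
      rw [h3, one_mul, inv_one, mul_one, beq_iff_eq.1 hs', zpow_one, mul_one] at h4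
      have h5 := xG_injective hp.inList hs h4
      apply h2K
      linear_combination h5
  have hjT : phi hp K i (-1) ∈ (D.diagonalSubgroup K).subgroupOf (D.group K) := by
    rw [Subgroup.mem_subgroupOf, phi_neg_one]
    exact hG_mem_diagonal hp.inList hr (neg_ne_zero.2 one_ne_zero)
  have hrange : (phi hp K i).range = JX (fun x => (XV D l K x).subgroupOf (D.group K)) (phi hp K i (-1)) (sr i) := by
    refine range_eq_JX _ rfl ?_ ?_ ?_ ?_
    · intro t
      rw [Subgroup.mem_subgroupOf, phi_up, XV_sr hp i]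
      exact xG_mem_rootSubgroup _ _ _
    · intro t
      rw [Subgroup.mem_subgroupOf, phi_lo, XV_neg_sr hp i]
      exact xG_mem_rootSubgroup _ _ _
    · intro u hu _
      rw [Subgroup.mem_subgroupOf, XV_sr hp i, mem_rootSubgroup_iff hp.inList] at hu
      obtain ⟨t, ht⟩ := hu
      exact ⟨t, Subtype.ext (by rw [phi_up, ht])⟩
    · intro u hu _
      rw [Subgroup.mem_subgroupOf, XV_neg_sr hp i, mem_rootSubgroup_iff hp.inList] at hu
      obtain ⟨t, ht⟩ := hu
      exact ⟨t, Subtype.ext (by rw [phi_lo, ht])⟩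
  -- the roots with odd Cartan integer
  have hodd : ∀ s, s < D.nroots → D.cartan i s = 1 ∨ D.cartan i s = -1 →
      ZX (fun x => (XV D l K x).subgroupOf (D.group K)) (phi hp K i (-1)) (vec D l s) = ⊥ := by
    intro s hs hc
    rw [eq_bot_iff]
    intro u hu
    obtain ⟨hu1, hu2⟩ := mem_ZX.1 hu
    rw [Subgroup.mem_subgroupOf, XV_vec hp K hs, mem_rootSubgroup_iff hp.inList] at hu1
    obtain ⟨t, ht⟩ := hu1
    have h5 : (phi hp K i (-1) * u * (phi hp K i (-1))⁻¹ : ↥(D.group K)) = u := by rw [hu2, mul_inv_cancel_right]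
    have h6 := congrArg Subtype.val h5
    rw [Subgroup.coe_mul, Subgroup.coe_mul, Subgroup.coe_inv, phi_neg_one, ht,
      conj_hG hp K i hs (-1) (neg_ne_zero.2 one_ne_zero)] at h6
    have h7 := xG_injective hp.inList hs h6
    have h8 : (-1 : K) ^ D.cartan i s = -1 := by
      rcases hc with h8 | h8
      · rw [h8, zpow_one]
      · rw [h8, zpow_neg, zpow_one, inv_neg, inv_one]
    rw [h8] at h7
    have h9 : 2 * t = 0 := by linear_combination -h7
    have h10 : t = 0 := (mul_eq_zero.1 h9).resolve_left h2K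
    rw [Subgroup.mem_bot]
    apply Subtype.ext
    rw [ht, h10, xG_zero]
    rfl
  have heven : ∀ s, s < D.nroots → Even (D.cartan i s) →
      ZX (fun x => (XV D l K x).subgroupOf (D.group K)) (phi hp K i (-1)) (vec D l s) ≠ ⊥ := by
    intro s hs hc hbot
    have h5 : (⟨xG hp.inList s 1, xG_mem_group hp.inList s 1⟩ : ↥(D.group K)) ∈
        ZX (fun x => (XV D l K x).subgroupOf (D.group K)) (phi hp K i (-1)) (vec D l s) := by
      rw [mem_ZX]
      refine ⟨?_, ?_⟩
      · rw [Subgroup.mem_subgroupOf, XV_vec hp K hs]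
        exact xG_mem_rootSubgroup hp.inList s 1
      · apply Subtype.ext
        rw [Subgroup.coe_mul, Subgroup.coe_mul, phi_neg_one]
        have h6 := conj_hG hp K i hs (-1) (neg_ne_zero.2 one_ne_zero) 1
        rw [hc.neg_one_zpow, mul_one] at h6
        exact mul_inv_eq_iff_eq_mul.1 h6
    rw [hbot, Subgroup.mem_bot] at h5
    have h6 : xG hp.inList s (1 : K) = 1 := congrArg Subtype.val h5
    have h7 := xG_injective hp.inList hs (h6.trans (xG_zero hp.inList s).symm)
    exact one_ne_zero h7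
  have hca : D.cartan i (D.simple i) = 2 := by
    rw [← cartanOf_def D l i i, hp.isCartan.diag]
  have hcases : ∀ s, s < D.nroots → s ≠ D.simple i → s ≠ D.neg (D.simple i) →
      D.cartan i s = 0 ∨ D.cartan i s = 1 ∨ D.cartan i s = -1 := by
    intro s hs hs1 hs2
    have h5 := List.all_eq_true.1 h4 s (List.mem_range.2 hs)
    simp only [Bool.or_eq_true, beq_iff_eq, Bool.and_eq_true, hs1, hs2, false_and, or_false] at h5
    (clear * - h5; tauto)
  have hne : ∀ x, x ≠ sr i → x ≠ -sr i → ∀ s, s < D.nroots → vec D l s = x →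
      s ≠ D.simple i ∧ s ≠ D.neg (D.simple i) := by
    rintro x hx1 hx2 s hs rfl
    constructor
    · rintro rfl
      exact hx1 (vec_simple hp i)
    · rintro rfl
      exact hx2 (by rw [vec_neg hp hr, vec_simple hp i])
  have hzero : ∀ x, x ≠ sr i → x ≠ -sr i →
      ZX (fun x => (XV D l K x).subgroupOf (D.group K)) (phi hp K i (-1)) x ≠ ⊥ →
      ∀ s, s < D.nroots → vec D l s = x → D.cartan i s = 0 := by
    intro x hx1 hx2 hx s hs hsx
    obtain ⟨hs1, hs2⟩ := hne x hx1 hx2 s hs hsx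
    rcases hcases s hs hs1 hs2 with h5 | h5
    · exact h5
    · exfalso
      apply hx
      rw [← hsx]
      exact hodd s hs h5
  -- the main statement
  have key := normal_of_rgd (rgd (K := K) hp cs p) hjT (isRoot_sr cs hp.isCartan i) ?_
    (KFacts.RgdRigid.GG_eq_top (G1_eq_top hp cs)) ?_ ?_ ?_
  · refine ⟨fun a b hab => hinj (Subtype.ext hab), Phi_mem hp K _ hr, ?_⟩
    intro c hc hcc s
    have h5 := key ⟨c, hc⟩ (by
      rw [Subgroup.mem_centralizer_singleton_iff]
      exact Subtype.ext hcc) (phi hp K i s) (by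
      rw [← hrange]
      exact ⟨s, rfl⟩)
    rw [← hrange] at h5
    obtain ⟨s', hs'⟩ := h5
    exact ⟨s', (congrArg Subtype.val hs').symm⟩
  · intro x hx hx1 hx2 u hu v hv
    obtain ⟨s, hs, rfl⟩ := (isRoot_iff hp cs x).1 hx
    obtain ⟨hs1, hs2⟩ := hne _ hx1 hx2 s hs rfl
    have h3 := List.all_eq_true.1 h1 s (List.mem_range.2 hs)
    simp only [Bool.or_eq_true, beq_iff_eq, Bool.and_eq_true, List.isEmpty_iff, hs1, hs2, false_or] at h3
    have hcase : (D.cartan i s = 1 ∨ D.cartan i s = -1) ∨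
        (D.commTerms (D.simple i) s = [] ∧ D.commTerms (D.neg (D.simple i)) s = []) := h3
    rcases hcase with h3 | ⟨h3, h4⟩
    · rw [hodd s hs h3, Subgroup.mem_bot] at hu
      rw [hu, one_mul, mul_one]
    · have hu' := (mem_ZX.1 hu).1
      rw [Subgroup.mem_subgroupOf, XV_vec hp K hs, mem_rootSubgroup_iff hp.inList] at hu'
      obtain ⟨t, ht⟩ := hu'
      rw [← hrange] at hv
      refine commute_range _ ?_ ?_ v hv
      · intro c
        apply Subtype.ext
        rw [Subgroup.coe_mul, Subgroup.coe_mul, phi_up, ht]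
        exact commute_xG hp K hr hs hs1 hs2 h3 c t
      · intro c
        apply Subtype.ext
        rw [Subgroup.coe_mul, Subgroup.coe_mul, phi_lo, ht]
        exact commute_xG hp K hnr hs hs2 (by rw [RootVec.neg_neg hp.checked hr]; exact hs1) h4 c t
  · rw [← vec_simple hp i]
    exact heven _ hr (by rw [hca]; exact even_two)
  · intro x hx hx0 hx1 hx2 hxs
    obtain ⟨s, hs, hsx⟩ := (isRoot_iff hp cs x).1 hx
    have hs0 := hzero x hx1 hx2 hx0 s hs hsx
    obtain ⟨v, hv, hvx⟩ := (isRoot_iff hp cs _).1 hxs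
    have h5 : D.cartan i v = 2 := by
      rw [← pairing_vec hp i hv, hvx, ← hsx, ← vec_simple hp i]
      have h6 : pairing (cartanOf D l) i (vec D l s + vec D l (D.simple i)) =
          pairing (cartanOf D l) i (vec D l s) + pairing (cartanOf D l) i (vec D l (D.simple i)) := by
        unfold pairing
        rw [← Finset.sum_add_distrib]
        refine Finset.sum_congr rfl fun j _ => ?_
        rw [Pi.add_apply]
        ring
      rw [h6, pairing_vec hp i hs, pairing_vec hp i hr, hs0, hca, zero_add]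
    have h6 := List.all_eq_true.1 h4 v (List.mem_range.2 hv)
    simp only [Bool.or_eq_true, beq_iff_eq, Bool.and_eq_true, h5] at h6
    have h7 : v = D.simple i := by
      rcases h6 with (((h6 | h6) | h6) | h6) | h6
      · norm_num at h6
      · norm_num at h6
      · norm_num at h6
      · exact h6
      · norm_num at h6
    rw [h7, vec_simple hp i] at hvx
    have h8 : x = 0 := by
      have := hvx.symm
      rwa [add_eq_right] at this
    exact hx.ne_zero h8
  · intro b hb hb1 hb2 hb0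
    obtain ⟨s, hs, hsb⟩ := (isRoot_iff hp cs b).1 hb
    obtain ⟨hs1, hs2⟩ := hne b hb1 hb2 s hs hsb
    have hs0 := hzero b hb1 hb2 hb0 s hs hsb
    have h5 := List.all_eq_true.1 h3 s (List.mem_range.2 hs)
    simp only [Bool.or_eq_true, beq_iff_eq, hs0, hs1, hs2, or_false] at h5
    have h6 : ((List.range D.nroots).any fun x => D.cartan i x == 0 && x != s && x != D.neg s &&
      (D.commTerms s x).any fun v => v.2.2.1 == 1 && v.2.2.2 == 1) = true := by
      rcases h5 with (h5 | h5) | h5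
      · norm_num at h5
      · norm_num at h5
      · exact h5
    obtain ⟨x, hx, hx'⟩ := List.any_eq_true.1 h6
    rw [List.mem_range] at hx
    simp only [Bool.and_eq_true, beq_iff_eq, bne_iff_ne] at hx'
    obtain ⟨⟨⟨hx1, hx2⟩, hx3⟩, hx4⟩ := hx'
    obtain ⟨v, hv, hv'⟩ := List.any_eq_true.1 hx4
    simp only [Bool.and_eq_true, beq_iff_eq] at hv'
    obtain ⟨u, C, i', j'⟩ := v
    simp only at hv'
    obtain ⟨rfl, rfl⟩ := hv'
    obtain ⟨hu1, -, -, -, -, huv⟩ := RootVec.commTerms_rt hp.checked hv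
    refine ⟨vec D l x, isRoot_vec hp cs hx, heven x hx (by rw [hx1]; exact ⟨0, by norm_num⟩), ?_, ?_, ?_⟩
    · intro h7
      exact hx2 (vec_inj hp hx hs (h7.trans hsb.symm))
    · intro h7
      rw [← hsb, ← vec_neg hp hs] at h7
      exact hx3 (vec_inj hp hx (neg_lt hp.inList hs) h7)
    · rw [isRoot_iff hp cs]
      refine ⟨u, hu1, ?_⟩
      rw [← hsb]
      funext k
      rw [vec_apply, huv, Pi.add_apply, vec_apply, vec_apply]
      push_cast
      ring

/-! ### The configuration -/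

theorem Cj.of_range {Y : Type*} [Group Y] {φ ψ : Matrix.SpecialLinearGroup (Fin 2) K →* Y} {n : Y}
    (h : cj n φ.range = ψ.range) : Cj φ ψ n := by
  constructor
  · intro s
    have h1 : n * φ s * n⁻¹ ∈ cj n φ.range := conj_mem_cj.2 ⟨s, rfl⟩
    rw [h] at h1
    obtain ⟨s', hs'⟩ := h1
    exact ⟨s', hs'.symm⟩
  · intro s'
    have h1 : ψ s' ∈ cj n φ.range := by
      rw [h]
      exact ⟨s', rfl⟩
    rw [mem_cj] at h1
    obtain ⟨s, hs⟩ := h1
    refine ⟨s, ?_⟩
    rw [hs]
    group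

include hp in
theorem neg_reflectRoot (i : Fin l) {r : ℕ} (hr : r < D.nroots) :
    D.neg (D.reflectRoot i r) = D.reflectRoot i (D.neg r) := by
  let cs : CoxeterSystem M M.Group := M.toCoxeterSystem
  have h1 := reflectRoot_lt hp.inList (lt_rank hp i) hr
  have h2 := neg_lt hp.inList hr
  apply vec_inj hp (neg_lt hp.inList h1) (reflectRoot_lt hp.inList (lt_rank hp i) h2)
  rw [vec_neg hp h1, ← rep_vec hp cs i hr, ← rep_vec hp cs i h2, vec_neg hp hr, map_neg]

theorem cj_refl (i : Fin l) {r : ℕ} (hr : r < D.nroots) (hr' : D.reflectRoot i r < D.nroots) :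
    Cj (Phi hp K r hr) (Phi hp K (D.reflectRoot i r) hr') (nn hp K i) := by
  apply Cj.of_range
  have h1 := cj_nn hp (K := K) i hr
  have h2 := cj_nn hp (K := K) i (neg_lt hp.inList hr)
  rw [XV_vec hp K hr, XV_vec hp K hr'] at h1
  rw [XV_vec hp K (neg_lt hp.inList hr), ← neg_reflectRoot hp i hr, XV_vec hp K (neg_lt hp.inList hr')] at h2
  rw [range_Phi, range_Phi, cj_sup, h1, h2]

/-- the image of a root under a product of reflections -/
def refl (D : ChevalleyDatum) {l : ℕ} (ω : List (Fin l)) (r : ℕ) : ℕ := ω.foldr (fun i r => D.reflectRoot i r) r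

theorem exists_cj' (G : Subgroup (GL D.Idx K)) (ω : List (Fin l)) (hω : ∀ i ∈ ω, nn hp K i ∈ G) {r : ℕ}
    (hr : r < D.nroots) : ∃ (hr' : refl D ω r < D.nroots) (n : GL D.Idx K), n ∈ G ∧
      Cj (Phi hp K r hr) (Phi hp K (refl D ω r) hr') n := by
  induction ω with
  | nil => exact ⟨hr, 1, one_mem _, Cj.one _⟩
  | cons i ω ih =>
    obtain ⟨hr', n, hn, hc⟩ := ih fun j hj => hω j (List.mem_cons_of_mem _ hj)
    exact ⟨reflectRoot_lt hp.inList (lt_rank hp i) hr', nn hp K i * n, mul_mem (hω i List.mem_cons_self) hn,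
      hc.trans (cj_refl hp K i hr' _)⟩

theorem exists_cj (ω : List (Fin l)) {r : ℕ} (hr : r < D.nroots) :
    ∃ (hr' : refl D ω r < D.nroots) (n : GL D.Idx K), n ∈ D.group K ∧
      Cj (Phi hp K r hr) (Phi hp K (refl D ω r) hr') n :=
  exists_cj' hp K (D.group K) ω (fun i _ => nn_mem_group hp i) hr

/-- the root groups of `± r`, `± s` commute -/
def chkComm (D : ChevalleyDatum) (r s : ℕ) : Bool :=
  s != r && s != D.neg r && (D.commTerms r s).isEmpty && (D.commTerms (D.neg r) s).isEmpty &&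
    (D.commTerms r (D.neg s)).isEmpty && (D.commTerms (D.neg r) (D.neg s)).isEmpty

theorem commute_Phi {r s : ℕ} (hr : r < D.nroots) (hs : s < D.nroots) (h : chkComm D r s = true)
    (g g' : Matrix.SpecialLinearGroup (Fin 2) K) :
    Phi hp K r hr g * Phi hp K s hs g' = Phi hp K s hs g' * Phi hp K r hr g := by
  simp only [chkComm, Bool.and_eq_true, bne_iff_ne, List.isEmpty_iff] at h
  obtain ⟨⟨⟨⟨⟨h1, h2⟩, h3⟩, h4⟩, h5⟩, h6⟩ := h
  have hnr := neg_lt hp.inList hr
  have hns := neg_lt hp.inList hs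
  have hnn : D.neg (D.neg r) = r := RootVec.neg_neg hp.checked hr
  have hns' : D.neg (D.neg s) = s := RootVec.neg_neg hp.checked hs
  have key : ∀ u ∈ (Phi hp K s hs).range, ∀ v ∈ (Phi hp K r hr).range, u * v = v * u := by
    intro u hu v hv
    have hu2 : ∀ t, v * Phi hp K s hs (SL2Hom.up t) = Phi hp K s hs (SL2Hom.up t) * v := by
      intro t
      refine (commute_range (Phi hp K r hr) (u := Phi hp K s hs (SL2Hom.up t)) ?_ ?_ v hv).symm
      · intro c
        rw [Phi_up, Phi_up]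
        exact commute_xG hp K hr hs h1 h2 h3 c t
      · intro c
        rw [Phi_up, Phi_lo]
        exact commute_xG hp K hnr hs h2 (by rw [hnn]; exact h1) h4 c t
    have hu3 : ∀ t, v * Phi hp K s hs (SL2Hom.lo t) = Phi hp K s hs (SL2Hom.lo t) * v := by
      intro t
      refine (commute_range (Phi hp K r hr) (u := Phi hp K s hs (SL2Hom.lo t)) ?_ ?_ v hv).symm
      · intro c
        rw [Phi_lo, Phi_up]
        exact commute_xG hp K hr hns (fun h => h2 (by rw [← h, hns'])) (fun h => h1 (by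
          rw [← hns', h, hnn])) h5 c t
      · intro c
        rw [Phi_lo, Phi_lo]
        exact commute_xG hp K hnr hns (fun h => h1 (by rw [← hns', h, hnn])) (fun h => h2 (by
          rw [← hns', h, hnn])) h6 c t
    exact (commute_range (Phi hp K s hs) hu2 hu3 u hu).symm
  exact (key _ ⟨g', rfl⟩ _ ⟨g, rfl⟩).symm

theorem odd_zpow {c : ℤ} (h : c = 1 ∨ c = -1) : (-1 : K) ^ c = -1 := by
  rcases h with h | h
  · rw [h, zpow_one]
  · rw [h, zpow_neg, zpow_one, inv_neg, inv_one]

include hp in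
/-- **The configuration from the tables.** -/
theorem conf_of_tab [Fintype K] (hK : Odd (Fintype.card K)) (i₀ it : Fin l) (h1 : chk D i₀ = true)
    (h2 : chkOdd D i₀ = true) (h3 : chkE D i₀ = true) (h4 : chkC D i₀ = true) (ω : Fin 3 → List (Fin l))
    (b : Fin 3 → ℕ) (hb : ∀ k, refl D (ω k) (D.simple i₀) = b k) (hb0 : b 0 = D.simple i₀) (ωt : List (Fin l))
    (ht : refl D ωt (D.simple it) = D.simple i₀) (hcomm : ∀ k k', k ≠ k' → chkComm D (b k) (b k') = true)
    (hcart : ∀ k, (D.cartan it (b k) = 1 ∨ D.cartan it (b k) = -1) ∧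
      (D.cartan it (D.neg (b k)) = 1 ∨ D.cartan it (D.neg (b k)) = -1)) : D4Conf ↥(D.group K) := by
  classical
  have hr0 := simple_lt hp.inList (lt_rank hp i₀)
  have hrt := simple_lt hp.inList (lt_rank hp it)
  have hbig0 := big_simple hp K hK i₀ h1 h2 h3 h4
  have hex : ∀ k, ∃ (hr : b k < D.nroots) (n : GL D.Idx K), n ∈ D.group K ∧
      Cj (Phi hp K (D.simple i₀) hr0) (Phi hp K (b k) hr) n := by
    intro k
    obtain ⟨hr', n, hn, hc⟩ := exists_cj hp K (ω k) hr0
    have e := hb k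
    generalize refl D (ω k) (D.simple i₀) = r' at e hr' hc
    subst e
    exact ⟨hr', n, hn, hc⟩
  choose hr n hn hcj using hex
  have hbig : ∀ k, Big (D.group K) (Phi hp K (b k) (hr k)) := fun k =>
    hbig0.conj hK (Phi_mem hp K _ _) (hn k) (hcj k)
  obtain ⟨m, hm, hmt⟩ : ∃ m ∈ D.group K, m * Phi hp K (D.simple it) hrt (-1) * m⁻¹ =
      Phi hp K (D.simple i₀) hr0 (-1) := by
    obtain ⟨hr', m, hm, hc⟩ := exists_cj hp K ωt hrt
    generalize refl D ωt (D.simple it) = r' at ht hr' hc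
    subst ht
    have h5 := hc.symm.neg_one hK hbig0.inj
    exact ⟨m, hm, by rw [← h5]; group⟩
  have hfin : Finite (GL D.Idx K) := inferInstance
  refine conf_of_sub hK (D.group K) (fun k => Phi hp K (b k) (hr k)) (fun k => (hbig k).inj)
    (fun k => (hbig k).mem) (Phi hp K (D.simple it) hrt (-1)) (Phi_mem hp K _ _ _) ?_ (fun k => (hbig k).norm)
    (fun k k' hkk s s' => commute_Phi hp K (hr k) (hr k') (hcomm k k' hkk) s s') ?_ m hm ?_ ?_ ?_
  · rw [← map_mul, neg_one_mul, _root_.neg_neg, map_one]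
  · intro k k' hkk
    exact (hbig k).ne hK (mul_mem (hn k') (inv_mem (hn k))) ((hcj k).symm.trans (hcj k'))
      (fun s s' => commute_Phi hp K (hr k) (hr k') (hcomm k k' hkk) s s')
  · rw [hmt]
    congr 1
    simp only [hb0]
  · intro k c
    rw [Phi_up, Phi_up, Phi_simple_neg_one, conj_hG hp K it (hr k) (-1) (neg_ne_zero.2 one_ne_zero),
      odd_zpow K (hcart k).1, neg_one_mul]
  · intro k c
    rw [Phi_lo, Phi_lo, Phi_simple_neg_one, conj_hG hp K it (neg_lt hp.inList (hr k)) (-1)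
      (neg_ne_zero.2 one_ne_zero), odd_zpow K (hcart k).2, neg_one_mul]

end Main

end Cfsg.Agent.H808.D4

private theorem dce_7663da0f3fe4 : _root_.True := by
  try have : _root_.True := by simp only [_root_.Cfsg.Agent.H808.D4.Phi.congr_simp]
  try have : _root_.True := by simp only [_root_.Cfsg.Agent.H808.D4.chkComm.eq_1]
  exact _root_.True.intro
end
end
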